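import Groth.Agent.H45.PushLocal.ClsLocal
import Groth.Agent.H45.RlimModW.ClassO

/-!
# Classes of cycle sections of `PAcyc`-local complexes of modules (helper45)

For a complex `L` of `O`-modules whose image in the homotopy category is `PAcyc`-local (for instance the
pushforward of a K-injective complex along any morphism of ringed sites), classes of cycle sections behave
as for K-injective complexes: `clsO L q Y x = 0` iff `x` is a boundary, and every class in
`Hom_{D(O)}(j_{Y!}O_Y, L[q])` comes from a cycle section.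
-/

set_option autoImplicit false
universe w u
open CategoryTheory CategoryTheory.Limits Opposite CochainComplex HomComplex DerivedCategory

namespace Groth.Agent.H45.PushLocal

open Groth.Agent.H30 Groth.Agent.H45.RlimModW
open Groth.Agent.H31 (freeOnHomEquiv freeOnHomEquiv_naturality freeOnHomEquiv_symm_naturality)

variable {D : Type u} [SmallCategory D] {K : GrothendieckTopology D} {O_D : Sheaf K CommRingCat.{u}}

lemma isFreeSum_freeOn (Y : D) : IsFreeSum O_D (ModSite.freeOn O_D Y) := by
  let f : PUnit.{u + 1} → ModSite.Mod O_D := fun _ => ModSite.freeOn O_D Y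
  refine ⟨PUnit, fun _ => Y, ⟨?_⟩⟩
  exact
    { hom := Sigma.ι f PUnit.unit
      inv := Sigma.desc (fun _ => 𝟙 _)
      hom_inv_id := by simp [f]
      inv_hom_id := by
        apply Sigma.hom_ext
        rintro ⟨⟩
        simp [f] }

lemma isBddFree_single (Y : D) :
    IsBddFree O_D ((CochainComplex.singleFunctor (ModSite.Mod O_D) 0).obj (ModSite.freeOn O_D Y)) where
  bdd := ⟨0, inferInstance⟩
  free n := by
    by_cases hn : n = 0
    · subst hn
      exact (isFreeSum_freeOn Y).of_iso
        (HomologicalComplex.singleObjXSelf (ComplexShape.up ℤ) 0 (ModSite.freeOn O_D Y)).symm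
    · exact isFreeSum_of_isZero (HomologicalComplex.isZero_single_obj_X (ComplexShape.up ℤ) 0 _ n hn)

variable (O_D) in
/-- complexes whose image in the homotopy category is `PAcyc`-local. -/
def IsPLocal (L : CochainComplex (ModSite.Mod O_D) ℤ) : Prop :=
  (PAcyc O_D).rightOrthogonal ((HomotopyCategory.quotient _ _).obj L)

lemma IsPLocal.shift {L : CochainComplex (ModSite.Mod O_D) ℤ} (hL : IsPLocal O_D L) (n : ℤ) :
    IsPLocal O_D (L⟦n⟧) :=
  (PAcyc O_D).rightOrthogonal.prop_of_iso
    (((HomotopyCategory.quotient (ModSite.Mod O_D) (ComplexShape.up ℤ)).commShiftIso n).app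
      L).symm
    ((PAcyc O_D).rightOrthogonal.le_shift n _ hL)

lemma isPLocal_of_isKInjective (I : CochainComplex (ModSite.Mod O_D) ℤ) [I.IsKInjective] :
    IsPLocal O_D I :=
  local_of_kInjective _ (CochainComplex.IsKInjective.rightOrthogonal I)

variable [HasDerivedCategory.{w} (ModSite.Mod O_D)]

lemma bijective_toSmall_of_local (L : CochainComplex (ModSite.Mod O_D) ℤ) (hL : IsPLocal O_D L)
    (Y : D) (n : ℤ) :
    Function.Bijective (CohomologyClass.toSmallShiftedHom.{w}
      (K := (CochainComplex.singleFunctor (ModSite.Mod O_D) 0).obj (ModSite.freeOn O_D Y))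
      (L := L) (n := n)) := by
  apply bijective_toSmallShiftedHom_of_Qh
  letI := HasDerivedCategory.standard (ModSite.Mod O_D)
  exact Qh_map_bijective_of_local _ (hL.shift n) _ (isBddFree_single Y)

section
variable (L : CochainComplex (ModSite.Mod O_D) ℤ) (hL : IsPLocal O_D L) (q : ℤ) (Y : D)
include hL

lemma clsO_eq_zero_iff_of_local (q' : ℤ) (hq' : q + 1 = q') (x : (L.X q).val.obj (op Y))
    (hx : (L.d q q').val.app (op Y) x = 0) (q'' : ℤ) (hq'' : q'' + 1 = q) :
    clsO L q Y q' hq' x hx = 0 ↔
      ∃ y : (L.X q'').val.obj (op Y), (L.d q'' q).val.app (op Y) y = x := by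
  dsimp only [clsO]
  rw [cls_eq_zero_iff_of q' hq' (bijective_toSmall_of_local L hL Y q) _ _ q'' hq'']
  constructor
  · rintro ⟨g, hg⟩
    refine ⟨freeOnHomEquiv O_D Y _ g, ?_⟩
    rw [← freeOnHomEquiv_naturality, hg, freeOnHomEquiv_homOf]
  · rintro ⟨y, hy⟩
    refine ⟨homOf L q'' Y y, ?_⟩
    rw [homOf_comp, hy]

lemma clsO_surjective_of_local (q' : ℤ) (hq' : q + 1 = q') (α : HDUO O_D (Q.obj L) q Y) :
    ∃ (x : (L.X q).val.obj (op Y)) (hx : (L.d q q').val.app (op Y) x = 0),
      clsO L q Y q' hq' x hx = α := by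
  obtain ⟨φ, hφ, rfl⟩ := cls_surjective_of q' hq' (bijective_toSmall_of_local L hL Y q) α
  have hx : (L.d q q').val.app (op Y) (freeOnHomEquiv O_D Y (L.X q) φ) = 0 := by
    rw [← freeOnHomEquiv_naturality, hφ]
    exact (Groth.Agent.H45.QC.freeOnHomAddEquiv O_D Y (L.X q')).map_zero
  refine ⟨freeOnHomEquiv O_D Y (L.X q) φ, hx, ?_⟩
  dsimp only [clsO]
  exact KInjCls.cls_congr _ hq' (Equiv.symm_apply_apply _ φ) _ _

end

end Groth.Agent.H45.PushLocal
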