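import Groth.Agent.H45.PushLocal.SectLocal

/-!
# Cohomology over an object of morphisms of `PAcyc`-local complexes, sectionwise (helper45)

For a morphism `φ : G ⟶ G'` of `PAcyc`-local complexes of modules, `H^q(Y, G) → H^q(Y, G')` is injective
(resp. surjective) iff `φ` satisfies (SI) (resp. (SS)) over `Y` in degree `q`.
-/

set_option autoImplicit false
universe w u
open CategoryTheory CategoryTheory.Limits Opposite CochainComplex HomComplex DerivedCategory

namespace Groth.Agent.H45.PushLocal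

open Groth.Agent.H30 Groth.Agent.H45.RlimModW

variable {D : Type u} [SmallCategory D] {K : GrothendieckTopology D} {O_D : Sheaf K CommRingCat.{u}}
  [HasDerivedCategory.{w} (ModSite.Mod O_D)]
  {G G' : CochainComplex (ModSite.Mod O_D) ℤ} (φ : G ⟶ G')
  (hG : IsPLocal O_D G) (hG' : IsPLocal O_D G') (q : ℤ) (Y : D)

lemma clsO_boundary (L : CochainComplex (ModSite.Mod O_D) ℤ) (hL : IsPLocal O_D L)
    (q'' q' : ℤ) (hq'' : q'' + 1 = q) (hq' : q + 1 = q') (b : (L.X q'').val.obj (op Y))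
    (hb : (L.d q q').val.app (op Y) ((L.d q'' q).val.app (op Y) b) = 0) :
    clsO L q Y q' hq' ((L.d q'' q).val.app (op Y) b) hb = 0 :=
  (clsO_eq_zero_iff_of_local L hL q Y q' hq' _ hb q'' hq'').2 ⟨b, rfl⟩

lemma d_d_apply (L : CochainComplex (ModSite.Mod O_D) ℤ) (q'' q' : ℤ)
    (b : (L.X q'').val.obj (op Y)) :
    (L.d q q').val.app (op Y) ((L.d q'' q).val.app (op Y) b) = 0 := by
  have h1 : (L.d q'' q ≫ L.d q q').val.app (op Y) b = (0 : L.X q'' ⟶ L.X q').val.app (op Y) b := by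
    rw [L.d_comp_d]
  exact h1

include hG hG' in
theorem injective_postcomp_iff_sectInj :
    Function.Injective (fun x : HDUO O_D (Q.obj G) q Y => x ≫ (Q.map φ)⟦q⟧') ↔ SectInj φ q Y := by
  constructor
  · intro hinj q'' q' hq'' hq' x hx hb
    have hx' := map_cycle φ q q' Y x hx
    have h1 : clsO G' q Y q' hq' ((φ.f q).val.app (op Y) x) hx' = 0 :=
      (clsO_eq_zero_iff_of_local G' hG' q Y q' hq' _ hx' q'' hq'').2 hb
    rw [clsO_postcomp φ q Y q' hq' x hx hx'] at h1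
    have h2 : clsO G q Y q' hq' x hx = 0 := hinj (h1.trans zero_comp.symm)
    exact (clsO_eq_zero_iff_of_local G hG q Y q' hq' x hx q'' hq'').1 h2
  · intro hSI x₁ x₂ h12
    have h12' : x₁ ≫ (Q.map φ)⟦q⟧' = x₂ ≫ (Q.map φ)⟦q⟧' := h12
    obtain ⟨ξ, hξ, hξα⟩ := clsO_surjective_of_local G hG q Y (q + 1) rfl (x₁ - x₂)
    have hξ' := map_cycle φ q (q + 1) Y ξ hξ
    have h1 : clsO G' q Y (q + 1) rfl ((φ.f q).val.app (op Y) ξ) hξ' = 0 := by
      rw [clsO_postcomp φ q Y (q + 1) rfl ξ hξ hξ', hξα, Preadditive.sub_comp, h12', sub_self]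
    obtain ⟨b, hb⟩ := (clsO_eq_zero_iff_of_local G' hG' q Y (q + 1) rfl _ hξ' (q - 1)
      (by omega)).1 h1
    obtain ⟨y, hy⟩ := hSI (q - 1) (q + 1) (by omega) rfl ξ hξ ⟨b, hb⟩
    have h2 : clsO G q Y (q + 1) rfl ξ hξ = 0 :=
      (clsO_eq_zero_iff_of_local G hG q Y (q + 1) rfl ξ hξ (q - 1) (by omega)).2 ⟨y, hy⟩
    rw [h2] at hξα
    exact sub_eq_zero.1 hξα.symm

include hG hG' in
theorem surjective_postcomp_iff_sectSurj :
    Function.Surjective (fun x : HDUO O_D (Q.obj G) q Y => x ≫ (Q.map φ)⟦q⟧') ↔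
      SectSurj φ q Y := by
  constructor
  · intro hsurj q'' q' hq'' hq' x' hx'
    obtain ⟨α, hα⟩ := hsurj (clsO G' q Y q' hq' x' hx')
    have hα' : α ≫ (Q.map φ)⟦q⟧' = clsO G' q Y q' hq' x' hx' := hα
    obtain ⟨x, hx, hxα⟩ := clsO_surjective_of_local G hG q Y q' hq' α
    have hsx := map_cycle φ q q' Y x hx
    have h1 : clsO G' q Y q' hq' ((φ.f q).val.app (op Y) x) hsx = clsO G' q Y q' hq' x' hx' := by
      rw [clsO_postcomp φ q Y q' hq' x hx hsx, hxα, hα']
    have hy : (G'.d q q').val.app (op Y) (x' - (φ.f q).val.app (op Y) x) = 0 := by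
      rw [map_sub, hx', hsx, sub_zero]
    have hsum : (φ.f q).val.app (op Y) x + (x' - (φ.f q).val.app (op Y) x) = x' := by abel
    have hxy : (G'.d q q').val.app (op Y)
        ((φ.f q).val.app (op Y) x + (x' - (φ.f q).val.app (op Y) x)) = 0 := by
      rw [hsum]; exact hx'
    have h2 := clsO_add G' q Y q' hq' _ _ hsx hy hxy
    rw [clsO_congr G' q Y q' hq' hsum hxy hx', h1] at h2
    have h3 : clsO G' q Y q' hq' (x' - (φ.f q).val.app (op Y) x) hy = 0 := by
      have := h2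
      rwa [left_eq_add] at this
    obtain ⟨b, hb⟩ := (clsO_eq_zero_iff_of_local G' hG' q Y q' hq' _ hy q'' hq'').1 h3
    exact ⟨x, b, hx, by rw [hb]; exact hsum⟩
  · intro hSS β
    obtain ⟨x', hx', rfl⟩ := clsO_surjective_of_local G' hG' q Y (q + 1) rfl β
    obtain ⟨x, b, hx, hxb⟩ := hSS (q - 1) (q + 1) (by omega) rfl x' hx'
    have hsx := map_cycle φ q (q + 1) Y x hx
    have hdb := d_d_apply q Y G' (q - 1) (q + 1) b
    have hsum : (G'.d q (q + 1)).val.app (op Y)
        ((φ.f q).val.app (op Y) x + (G'.d (q - 1) q).val.app (op Y) b) = 0 := by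
      rw [hxb]; exact hx'
    refine ⟨clsO G q Y (q + 1) rfl x hx, ?_⟩
    change clsO G q Y (q + 1) rfl x hx ≫ (Q.map φ)⟦q⟧' = _
    rw [← clsO_postcomp φ q Y (q + 1) rfl x hx hsx,
      ← clsO_congr G' q Y (q + 1) rfl hxb hsum hx',
      clsO_add G' q Y (q + 1) rfl _ _ hsx hdb hsum,
      clsO_boundary q Y G' hG' (q - 1) (q + 1) (by omega) rfl b hdb, add_zero]

include hG in
theorem subsingleton_HDUO_iff_of_local :
    Subsingleton (HDUO O_D (Q.obj G) q Y) ↔
      ∀ x : (G.X q).val.obj (op Y), (G.d q (q + 1)).val.app (op Y) x = 0 →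
        ∃ y : (G.X (q - 1)).val.obj (op Y), (G.d (q - 1) q).val.app (op Y) y = x := by
  constructor
  · intro h x hx
    have h1 : clsO G q Y (q + 1) rfl x hx = 0 := Subsingleton.elim _ _
    exact (clsO_eq_zero_iff_of_local G hG q Y (q + 1) rfl x hx (q - 1) (by omega)).1 h1
  · intro h
    have key : ∀ α : HDUO O_D (Q.obj G) q Y, α = 0 := by
      intro α
      obtain ⟨x, hx, rfl⟩ := clsO_surjective_of_local G hG q Y (q + 1) rfl α
      exact (clsO_eq_zero_iff_of_local G hG q Y (q + 1) rfl x hx (q - 1) (by omega)).2 (h x hx)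
    exact ⟨fun a b => (key a).trans (key b).symm⟩

end Groth.Agent.H45.PushLocal
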