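import Groth.Agent.H33.DerTriangle
import Groth.Agent.H45.Derived.UnboundedTools

/-!
# Additivity of total right derived functors computed by K-injective resolutions; derived limits (helper45)

* `additive_RF`: the total right derived functor of an additive functor on the homotopy category is additive.
* `isRlimVia_map'`: an additive functor which preserves distinguished triangles up to the choice of the third map
  and commutes with the relevant product preserves derived limits.
-/

set_option autoImplicit false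

open CategoryTheory Limits Pretriangulated

namespace Groth.Agent.H45.PushLocal

universe w₁ w₂ v₁ u₁ v₂ u₂

open Groth.Agent.H5.KInjDeriv Groth.Agent.H33.DerComp

section additive

variable {A : Type u₁} [Category.{v₁} A] [Abelian A] [HasDerivedCategory.{w₁} A]
  (hKinjA : ∀ K : CochainComplex A ℤ, ∃ (I : CochainComplex A ℤ) (f : K ⟶ I),
    I.IsKInjective ∧ QuasiIso f)
  {D' : Type*} [Category D'] [Preadditive D']
  (F : HomotopyCategory A (ComplexShape.up ℤ) ⥤ D') [F.Additive]
  [F.HasRightDerivedFunctor (HomotopyCategory.quasiIso A (ComplexShape.up ℤ))]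

include hKinjA in
/-- The total right derived functor of an additive functor is additive. -/
theorem additive_RF : (RF F).Additive where
  map_add {X Y x y} := by
    have hess := essSurj hKinjA
    let Ψ := (Φ A).functor ⋙ DerivedCategory.Qh (C := A)
    let I : KInj A := Ψ.objPreimage X
    let e₁ : DerivedCategory.Qh.obj I.obj ≅ X := Ψ.objObjPreimageIso X
    let J : KInj A := Ψ.objPreimage Y
    let e₂ : DerivedCategory.Qh.obj J.obj ≅ Y := Ψ.objObjPreimageIso Y
    have i₁ : IsIso ((RFunit F).app I.obj) := isIso_RFunit_app hKinjA F I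
    have i₂ : IsIso ((RFunit F).app J.obj) := isIso_RFunit_app hKinjA F J
    have key : ∀ (z : X ⟶ Y) (u : I.obj ⟶ J.obj),
        DerivedCategory.Qh.map u = e₁.hom ≫ z ≫ e₂.inv →
        (RF F).map z = ((RF F).map e₁.inv ≫ inv ((RFunit F).app I.obj)) ≫ F.map u ≫
          ((RFunit F).app J.obj ≫ (RF F).map e₂.hom) := by
      intro z u hu
      have hn : F.map u ≫ (RFunit F).app J.obj =
          (RFunit F).app I.obj ≫ (RF F).map (DerivedCategory.Qh.map u) := (RFunit F).naturality u
      rw [Category.assoc, ← Category.assoc (F.map u), hn, Category.assoc,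
        IsIso.inv_hom_id_assoc, hu, ← Functor.map_comp, ← Functor.map_comp]
      congr 1
      rw [Category.assoc, Category.assoc, Iso.inv_hom_id, Category.comp_id,
        Iso.inv_hom_id_assoc]
    obtain ⟨ux, hux⟩ := (Qh_map_bijective' I.obj J).2 (e₁.hom ≫ x ≫ e₂.inv)
    obtain ⟨uy, huy⟩ := (Qh_map_bijective' I.obj J).2 (e₁.hom ≫ y ≫ e₂.inv)
    have huxy : DerivedCategory.Qh.map (ux + uy) = e₁.hom ≫ (x + y) ≫ e₂.inv := by
      rw [Functor.map_add, hux, huy, Preadditive.add_comp, Preadditive.comp_add]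
    rw [key _ _ huxy, key _ _ hux, key _ _ huy, Functor.map_add, Preadditive.add_comp,
      Preadditive.comp_add]

end additive

section mapHomotopy

variable {B : Type u₁} [Category.{v₁} B] [Abelian B] [HasDerivedCategory.{w₁} B]
  {A : Type u₂} [Category.{v₂} A] [Abelian A] [HasDerivedCategory.{w₂} A]
  (hKinjB : ∀ K : CochainComplex B ℤ, ∃ (I : CochainComplex B ℤ) (f : K ⟶ I),
    I.IsKInjective ∧ QuasiIso f)
  (G : B ⥤ A) [G.Additive]
  [(G.mapHomotopyCategory (ComplexShape.up ℤ) ⋙ DerivedCategory.Qh).HasRightDerivedFunctor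
    (HomotopyCategory.quasiIso B (ComplexShape.up ℤ))]

include hKinjB in
/-- The total right derived functor of an additive functor between abelian categories sends distinguished
triangles to distinguished triangles, for a suitable third morphism. -/
theorem exists_distinguished_mapHomotopy (T : Triangle (DerivedCategory B))
    (hT : T ∈ distTriang _) :
    ∃ w : (RF (G.mapHomotopyCategory (ComplexShape.up ℤ) ⋙ DerivedCategory.Qh)).obj T.obj₃ ⟶
        ((RF (G.mapHomotopyCategory (ComplexShape.up ℤ) ⋙ DerivedCategory.Qh)).obj T.obj₁)⟦(1 : ℤ)⟧,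
      Triangle.mk ((RF (G.mapHomotopyCategory (ComplexShape.up ℤ) ⋙ DerivedCategory.Qh)).map T.mor₁)
        ((RF (G.mapHomotopyCategory (ComplexShape.up ℤ) ⋙ DerivedCategory.Qh)).map T.mor₂) w ∈
          distTriang (DerivedCategory A) :=
  Groth.Agent.H33.DerTriangle.exists_distinguished hKinjB
    (G.mapHomotopyCategory (ComplexShape.up ℤ) ⋙ DerivedCategory.Qh) T hT

end mapHomotopy

section rlim

variable {T : Type u₁} [Category.{v₁} T] [Preadditive T] [HasZeroObject T] [HasShift T ℤ]
  [∀ n : ℤ, (shiftFunctor T n).Additive] [Pretriangulated T]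
  {T' : Type u₂} [Category.{v₂} T'] [Preadditive T'] [HasZeroObject T'] [HasShift T' ℤ]
  [∀ n : ℤ, (shiftFunctor T' n).Additive] [Pretriangulated T']

/-- An additive functor which sends distinguished triangles to distinguished triangles (for some third map) and
preserves the product of the `K n` preserves derived limits of `(K n)`. -/
theorem isRlimVia_map' (G : T ⥤ T') [G.Additive]
    (hG : ∀ X : Triangle T, X ∈ distTriang T →
      ∃ w : G.obj X.obj₃ ⟶ (G.obj X.obj₁)⟦(1 : ℤ)⟧,
        Triangle.mk (G.map X.mor₁) (G.map X.mor₂) w ∈ distTriang T')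
    (K : ℕ → T) (t : ∀ n, K (n + 1) ⟶ K n) [HasProduct K] (L : T) (a : ∀ n, L ⟶ K n)
    (hL : CohCx.IsRlimVia K t L a) [HasProduct fun n => G.obj (K n)]
    [IsIso (piComparison G K)] :
    CohCx.IsRlimVia (fun n => G.obj (K n)) (fun n => G.map (t n)) (G.obj L)
      (fun n => G.map (a n)) := by
  obtain ⟨c, hT⟩ := hL
  obtain ⟨m₃, hw⟩ : ∃ m₃ : G.obj (∏ᶜ K) ⟶ (G.obj L)⟦(1 : ℤ)⟧,
      Triangle.mk (G.map (Pi.lift a))
        (G.map (Pi.lift fun n => Pi.π K n - Pi.π K (n + 1) ≫ t n)) m₃ ∈ distTriang T' :=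
    hG _ hT
  let e : G.obj (∏ᶜ K) ≅ ∏ᶜ fun n => G.obj (K n) := asIso (piComparison G K)
  have he : ∀ n, e.hom ≫ Pi.π (fun n => G.obj (K n)) n = G.map (Pi.π K n) := fun n =>
    piComparison_comp_π G K n
  have ha : G.map (Pi.lift a) ≫ e.hom = Pi.lift fun n => G.map (a n) := by
    apply Pi.hom_ext
    intro n
    rw [Category.assoc, he, Pi.lift_π, ← Functor.map_comp, Pi.lift_π]
  have hφ : G.map (Pi.lift fun n => Pi.π K n - Pi.π K (n + 1) ≫ t n) ≫ e.hom =
      e.hom ≫ Pi.lift fun n => Pi.π (fun n => G.obj (K n)) n -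
        Pi.π (fun n => G.obj (K n)) (n + 1) ≫ G.map (t n) := by
    apply Pi.hom_ext
    intro n
    rw [Category.assoc, Category.assoc, he, Pi.lift_π, ← Functor.map_comp, Pi.lift_π,
      Functor.map_sub, Functor.map_comp, Preadditive.comp_sub, he, ← Category.assoc, he]
  refine ⟨e.inv ≫ m₃, isomorphic_distinguished _ hw _
    (Triangle.isoMk _ _ (Iso.refl _) e.symm e.symm ?_ ?_ ?_)⟩
  · change (Pi.lift fun n => G.map (a n)) ≫ e.inv = 𝟙 _ ≫ G.map (Pi.lift a)
    rw [Category.id_comp, ← ha, Category.assoc, Iso.hom_inv_id, Category.comp_id]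
  · change (Pi.lift fun n => Pi.π (fun n => G.obj (K n)) n -
        Pi.π (fun n => G.obj (K n)) (n + 1) ≫ G.map (t n)) ≫ e.inv =
      e.inv ≫ G.map (Pi.lift fun n => Pi.π K n - Pi.π K (n + 1) ≫ t n)
    rw [← cancel_mono e.hom, Category.assoc, Category.assoc, Iso.inv_hom_id, Category.comp_id,
      hφ, Iso.inv_hom_id_assoc]
  · change (e.inv ≫ m₃) ≫ (𝟙 (G.obj L))⟦(1 : ℤ)⟧' = e.inv ≫ m₃
    have h1 : (𝟙 (G.obj L))⟦(1 : ℤ)⟧' = 𝟙 _ := CategoryTheory.Functor.map_id _ _
    rw [h1, Category.comp_id]

end rlim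

end Groth.Agent.H45.PushLocal
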