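import Groth.Agent.H45.PushLocal.PushProd
import Groth.Agent.H45.PushLocal.RFAdditive

/-!
# `Rf_*` commutes with countable products and with derived limits (helper45)

For any morphism of ringed sites `f` (no flatness, no derived adjunction), the unbounded `Rf_*` commutes with
countable products and hence with derived limits.
-/

set_option autoImplicit false
universe w w' u
open CategoryTheory CategoryTheory.Limits Opposite DerivedCategory Pretriangulated

namespace Groth.Agent.H45.PushLocal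

open Groth.Agent.H5.KInjDeriv Groth.Agent.H33.DerComp

variable {C : Type u} [SmallCategory C] {J : GrothendieckTopology C} {O_C : Sheaf J CommRingCat.{u}}
  {D : Type u} [SmallCategory D] {K : GrothendieckTopology D} {O_D : Sheaf K CommRingCat.{u}}
  (f : ModSite.RMor O_C O_D)

variable (O_C) in
lemma hKinj_mod : ∀ K : CochainComplex (ModSite.Mod O_C) ℤ, ∃ (I : CochainComplex (ModSite.Mod O_C) ℤ)
    (g : K ⟶ I), I.IsKInjective ∧ QuasiIso g := by
  haveI : IsGrothendieckAbelian.{u} (ModSite.Mod O_C) :=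
    Groth.Agent.H33.SheafMod.isGrothendieckAbelian J (ModSite.ringSh O_C)
  intro K
  obtain ⟨I, g, hI, hg, -, -⟩ := Groth.Agent.H33.KInj.exists_kInjective_resolution K
  exact ⟨I, g, hI, hg⟩

variable [HasDerivedCategory.{w} (ModSite.Mod O_C)] [HasDerivedCategory.{w'} (ModSite.Mod O_D)]

/-- `K(Mod O_C) ⥤ D(Mod O_D)` induced by `f_*` (`SiteCmp.pushKh` for arbitrary models of the derived category). -/
noncomputable abbrev pushKh' :
    HomotopyCategory (ModSite.Mod O_C) (ComplexShape.up ℤ) ⥤ DerivedCategory (ModSite.Mod O_D) :=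
  f.push.mapHomotopyCategory (ComplexShape.up ℤ) ⋙ DerivedCategory.Qh

variable [(pushKh' f).HasRightDerivedFunctor
  (HomotopyCategory.quasiIso (ModSite.Mod O_C) (ComplexShape.up ℤ))]

instance additive_RpushD' : (RF (pushKh' f)).Additive := additive_RF (hKinj_mod O_C) (pushKh' f)

/-- **`Rf_*` commutes with countable products.** -/
theorem isIso_piComparison_RF (E : ℕ → DerivedCategory (ModSite.Mod O_C)) [HasProduct E]
    [HasProduct fun n => (RF (pushKh' f)).obj (E n)] :
    IsIso (piComparison (RF (pushKh' f)) E) := by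
  haveI : IsGrothendieckAbelian.{u} (ModSite.Mod O_C) :=
    Groth.Agent.H33.SheafMod.isGrothendieckAbelian J (ModSite.ringSh O_C)
  let R := RF (pushKh' f)
  let fC := f.push.mapHomologicalComplex (ComplexShape.up ℤ)
  choose I g hI hg _ _ using fun n : ℕ => Groth.Agent.H33.KInj.exists_kInjective_resolution
    ((Q : _ ⥤ DerivedCategory (ModSite.Mod O_C)).objPreimage (E n))
  have : ∀ n, IsIso ((Q : _ ⥤ DerivedCategory (ModSite.Mod O_C)).map (g n)) := fun n =>
    (DerivedCategory.isIso_Q_map_iff_quasiIso (C := ModSite.Mod O_C) (g n)).2 (hg n)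
  let e : ∀ n, (Q : _ ⥤ DerivedCategory (ModSite.Mod O_C)).obj (I n) ≅ E n := fun n =>
    (asIso (Q.map (g n))).symm ≪≫ (Q : _ ⥤ DerivedCategory (ModSite.Mod O_C)).objObjPreimageIso (E n)
  let c : Fan I := Fan.mk (∏ᶜ I) (Pi.π I)
  have hc : IsLimit c := productIsProduct I
  have hP : (∏ᶜ I).IsKInjective := Groth.Agent.H6.DerivedProd.isKInjective_of_isLimit c hc hI
  obtain ⟨hfanQ⟩ := nonempty_isLimit_Q_fan (A := ModSite.Mod O_C) c hc hI
  let fanE : Fan E := Fan.mk (Q.obj (∏ᶜ I)) (fun n => Q.map (Pi.π I n) ≫ (e n).hom)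
  have hfanE : IsLimit fanE := isLimitFanOfIso _ hfanQ fanE (Iso.refl _) e (fun n => by
    change 𝟙 _ ≫ Q.map (Pi.π I n) ≫ (e n).hom = Q.map (Pi.π I n) ≫ (e n).hom
    rw [Category.id_comp])
  obtain ⟨hpush⟩ := nonempty_isLimit_Q_push_fan f c hc hI
  -- the unit isomorphisms
  have iP : IsIso ((RFunit (pushKh' f)).app ((HomotopyCategory.quotient _ _).obj (∏ᶜ I))) :=
    isIso_totalRightDerivedUnit_app (hKinj_mod O_C) (pushKh' f) (∏ᶜ I) hP
  have iI : ∀ n, IsIso ((RFunit (pushKh' f)).app ((HomotopyCategory.quotient _ _).obj (I n))) :=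
    fun n => isIso_totalRightDerivedUnit_app (hKinj_mod O_C) (pushKh' f) (I n) (hI n)
  let uP : (Q : _ ⥤ DerivedCategory (ModSite.Mod O_D)).obj (fC.obj (∏ᶜ I)) ⟶ R.obj (Q.obj (∏ᶜ I)) :=
    (RFunit (pushKh' f)).app ((HomotopyCategory.quotient _ _).obj (∏ᶜ I))
  let uI : ∀ n, (Q : _ ⥤ DerivedCategory (ModSite.Mod O_D)).obj (fC.obj (I n)) ⟶ R.obj (Q.obj (I n)) :=
    fun n => (RFunit (pushKh' f)).app ((HomotopyCategory.quotient _ _).obj (I n))
  have iP' : IsIso uP := iP
  have iI' : ∀ n, IsIso (uI n) := iI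
  have hnat : ∀ n, Q.map (fC.map (Pi.π I n)) ≫ uI n = uP ≫ R.map (Q.map (Pi.π I n)) := fun n =>
    (RFunit (pushKh' f)).naturality ((HomotopyCategory.quotient _ _).map (Pi.π I n))
  let eP : (Q : _ ⥤ DerivedCategory (ModSite.Mod O_D)).obj (fC.obj (∏ᶜ I)) ≅ R.obj (Q.obj (∏ᶜ I)) :=
    asIso uP
  let ε : ∀ n, (Q : _ ⥤ DerivedCategory (ModSite.Mod O_D)).obj (fC.obj (I n)) ≅ R.obj (E n) :=
    fun n => asIso (uI n) ≪≫ R.mapIso (e n)
  have hlim' : IsLimit (Fan.mk (R.obj (Q.obj (∏ᶜ I)))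
      (fun n => R.map (Q.map (Pi.π I n) ≫ (e n).hom)) : Fan (fun n => R.obj (E n))) := by
    refine isLimitFanOfIso _ hpush _ eP ε (fun n => ?_)
    change uP ≫ R.map (Q.map (Pi.π I n) ≫ (e n).hom) =
      Q.map (fC.map (Pi.π I n)) ≫ uI n ≫ R.map (e n).hom
    rw [Functor.map_comp, ← Category.assoc, ← Category.assoc, hnat]
  have hlim : IsLimit (R.mapCone fanE) := (isLimitMapConeFanMkEquiv R E _).symm hlim'
  have : PreservesLimit (Discrete.functor E) R := preservesLimit_of_preserves_limit_cone hfanE hlim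
  infer_instance

/-- **`Rf_*` commutes with derived limits.** -/
theorem isRlimVia_RF (E : ℕ → DerivedCategory (ModSite.Mod O_C)) (t : ∀ n, E (n + 1) ⟶ E n)
    [HasProduct E] (L : DerivedCategory (ModSite.Mod O_C)) (a : ∀ n, L ⟶ E n)
    (hL : CohCx.IsRlimVia E t L a) [HasProduct fun n => (RF (pushKh' f)).obj (E n)] :
    CohCx.IsRlimVia (fun n => (RF (pushKh' f)).obj (E n)) (fun n => (RF (pushKh' f)).map (t n))
      ((RF (pushKh' f)).obj L) (fun n => (RF (pushKh' f)).map (a n)) := by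
  have := isIso_piComparison_RF f E
  exact isRlimVia_map' (RF (pushKh' f))
    (fun X hX => exists_distinguished_mapHomotopy (hKinj_mod O_C) f.push X hX)
    E t L a hL

end Groth.Agent.H45.PushLocal
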