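import Groth.Agent.H45.PushLocal.SectHom
import Groth.Agent.H45.PushLocal.RpushRlim

/-!
# `H^q(Y, Rf_* M) = H^q(u(Y), M)` for an arbitrary morphism of ringed sites (helper45)

For a morphism of ringed sites `f` with underlying functor `u`, the unbounded `Rf_*` and a morphism `tt : M ⟶ M'`
of `D(O_C)`: the map `H^q(Y, Rf_* M) → H^q(Y, Rf_* M')` is injective (surjective) iff
`H^q(u(Y), M) → H^q(u(Y), M')` is.  No flatness assumption, no derived adjunction.
-/

set_option autoImplicit false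
universe w w' u
open CategoryTheory CategoryTheory.Limits Opposite DerivedCategory Pretriangulated

namespace Groth.Agent.H45.PushLocal

open Groth.Agent.H5.KInjDeriv Groth.Agent.H33.DerComp Groth.Agent.H45.RlimModW

section general

variable {T : Type*} [Category T] [HasShift T ℤ] {X X' Y Y' Z : T}
  (g : X ⟶ Y) (g' : X' ⟶ Y') (a : X ≅ X') (b : Y ≅ Y') (h : g ≫ b.hom = a.hom ≫ g') (q : ℤ)

/-- post-composition with a shifted isomorphism, as an equivalence. -/
noncomputable def postcompShiftEquiv : (Z ⟶ X⟦q⟧) ≃ (Z ⟶ X'⟦q⟧) where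
  toFun x := x ≫ a.hom⟦q⟧'
  invFun x := x ≫ a.inv⟦q⟧'
  left_inv x := by
    change (x ≫ a.hom⟦q⟧') ≫ a.inv⟦q⟧' = x
    rw [Category.assoc, ← Functor.map_comp, Iso.hom_inv_id, CategoryTheory.Functor.map_id,
      Category.comp_id]
  right_inv x := by
    change (x ≫ a.inv⟦q⟧') ≫ a.hom⟦q⟧' = x
    rw [Category.assoc, ← Functor.map_comp, Iso.inv_hom_id, CategoryTheory.Functor.map_id,
      Category.comp_id]

include h in
lemma postcomp_square :
    (fun x : Z ⟶ X'⟦q⟧ => x ≫ g'⟦q⟧') ∘ (postcompShiftEquiv (Z := Z) a q) =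
      (postcompShiftEquiv (Z := Z) b q) ∘ (fun x : Z ⟶ X⟦q⟧ => x ≫ g⟦q⟧') := by
  funext x
  change (x ≫ a.hom⟦q⟧') ≫ g'⟦q⟧' = (x ≫ g⟦q⟧') ≫ b.hom⟦q⟧'
  rw [Category.assoc, Category.assoc, ← Functor.map_comp, ← Functor.map_comp, h]

include h in
lemma injective_postcomp_iff_of_iso :
    Function.Injective (fun x : Z ⟶ X⟦q⟧ => x ≫ g⟦q⟧') ↔
      Function.Injective (fun x : Z ⟶ X'⟦q⟧ => x ≫ g'⟦q⟧') := by
  rw [← Function.Injective.of_comp_iff (postcompShiftEquiv (Z := Z) b q).injective,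
    ← postcomp_square g g' a b h q,
    Function.Injective.of_comp_iff' _ (postcompShiftEquiv (Z := Z) a q).bijective]

include h in
lemma surjective_postcomp_iff_of_iso :
    Function.Surjective (fun x : Z ⟶ X⟦q⟧ => x ≫ g⟦q⟧') ↔
      Function.Surjective (fun x : Z ⟶ X'⟦q⟧ => x ≫ g'⟦q⟧') := by
  rw [← Function.Surjective.of_comp_iff' (postcompShiftEquiv (Z := Z) b q).bijective,
    ← postcomp_square g g' a b h q,
    Function.Surjective.of_comp_iff _ (postcompShiftEquiv (Z := Z) a q).surjective]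

end general

variable {C : Type u} [SmallCategory C] {J : GrothendieckTopology C} {O_C : Sheaf J CommRingCat.{u}}
  {D : Type u} [SmallCategory D] {K : GrothendieckTopology D} {O_D : Sheaf K CommRingCat.{u}}
  (f : ModSite.RMor O_C O_D)
  [HasDerivedCategory.{w} (ModSite.Mod O_C)] [HasDerivedCategory.{w'} (ModSite.Mod O_D)]
  [(pushKh' f).HasRightDerivedFunctor
    (HomotopyCategory.quasiIso (ModSite.Mod O_C) (ComplexShape.up ℤ))]

/-- K-injective models of a morphism of `D(O_C)` and of its image under `Rf_*`. -/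
theorem exists_model {M M' : DerivedCategory (ModSite.Mod O_C)} (tt : M ⟶ M') :
    ∃ (I I' : CochainComplex (ModSite.Mod O_C) ℤ) (_ : I.IsKInjective) (_ : I'.IsKInjective)
      (φ : I ⟶ I') (e : M ≅ Q.obj I) (e' : M' ≅ Q.obj I')
      (a : (RF (pushKh' f)).obj M ≅
        Q.obj ((f.push.mapHomologicalComplex (ComplexShape.up ℤ)).obj I))
      (a' : (RF (pushKh' f)).obj M' ≅
        Q.obj ((f.push.mapHomologicalComplex (ComplexShape.up ℤ)).obj I')),
      tt ≫ e'.hom = e.hom ≫ Q.map φ ∧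
      (RF (pushKh' f)).map tt ≫ a'.hom =
        a.hom ≫ Q.map ((f.push.mapHomologicalComplex (ComplexShape.up ℤ)).map φ) := by
  have : IsGrothendieckAbelian.{u} (ModSite.Mod O_C) :=
    Groth.Agent.H33.SheafMod.isGrothendieckAbelian J (ModSite.ringSh O_C)
  let R := RF (pushKh' f)
  let fC := f.push.mapHomologicalComplex (ComplexShape.up ℤ)
  obtain ⟨I, g, hI, hg, -, -⟩ := Groth.Agent.H33.KInj.exists_kInjective_resolution
    ((Q : _ ⥤ DerivedCategory (ModSite.Mod O_C)).objPreimage M)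
  obtain ⟨I', g', hI', hg', -, -⟩ := Groth.Agent.H33.KInj.exists_kInjective_resolution
    ((Q : _ ⥤ DerivedCategory (ModSite.Mod O_C)).objPreimage M')
  have : IsIso ((Q : _ ⥤ DerivedCategory (ModSite.Mod O_C)).map g) :=
    (DerivedCategory.isIso_Q_map_iff_quasiIso (C := ModSite.Mod O_C) g).2 hg
  have : IsIso ((Q : _ ⥤ DerivedCategory (ModSite.Mod O_C)).map g') :=
    (DerivedCategory.isIso_Q_map_iff_quasiIso (C := ModSite.Mod O_C) g').2 hg'
  let e : M ≅ Q.obj I := (Q.objObjPreimageIso M).symm ≪≫ asIso (Q.map g)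
  let e' : M' ≅ Q.obj I' := (Q.objObjPreimageIso M').symm ≪≫ asIso (Q.map g')
  obtain ⟨φ, hφ⟩ := Groth.Agent.H16.RlimInjC.exists_Q_map_eq I I' (e.inv ≫ tt ≫ e'.hom)
  have iI : IsIso ((RFunit (pushKh' f)).app ((HomotopyCategory.quotient _ _).obj I)) :=
    isIso_totalRightDerivedUnit_app (hKinj_mod O_C) (pushKh' f) I hI
  have iI' : IsIso ((RFunit (pushKh' f)).app ((HomotopyCategory.quotient _ _).obj I')) :=
    isIso_totalRightDerivedUnit_app (hKinj_mod O_C) (pushKh' f) I' hI'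
  let uI : (Q : _ ⥤ DerivedCategory (ModSite.Mod O_D)).obj (fC.obj I) ⟶ R.obj (Q.obj I) :=
    (RFunit (pushKh' f)).app ((HomotopyCategory.quotient _ _).obj I)
  let uI' : (Q : _ ⥤ DerivedCategory (ModSite.Mod O_D)).obj (fC.obj I') ⟶ R.obj (Q.obj I') :=
    (RFunit (pushKh' f)).app ((HomotopyCategory.quotient _ _).obj I')
  have iuI : IsIso uI := iI
  have iuI' : IsIso uI' := iI'
  have hnat : Q.map (fC.map φ) ≫ uI' = uI ≫ R.map (Q.map φ) :=
    (RFunit (pushKh' f)).naturality ((HomotopyCategory.quotient _ _).map φ)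
  have h1 : tt ≫ e'.hom = e.hom ≫ Q.map φ := by
    rw [hφ, Iso.hom_inv_id_assoc]
  refine ⟨I, I', hI, hI', φ, e, e', R.mapIso e ≪≫ (asIso uI).symm,
    R.mapIso e' ≪≫ (asIso uI').symm, h1, ?_⟩
  change R.map tt ≫ R.map e'.hom ≫ inv uI' = (R.map e.hom ≫ inv uI) ≫ Q.map (fC.map φ)
  rw [← Category.assoc, ← Functor.map_comp, h1, Functor.map_comp, Category.assoc, Category.assoc]
  congr 1
  rw [IsIso.comp_inv_eq, Category.assoc, IsIso.eq_inv_comp, hnat]

variable {M M' : DerivedCategory (ModSite.Mod O_C)} (tt : M ⟶ M') (q : ℤ) (Y : D)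

/-- **transfer of injectivity.** -/
theorem injective_RF_iff :
    Function.Injective (fun x : HDUO O_D ((RF (pushKh' f)).obj M) q Y =>
        x ≫ ((RF (pushKh' f)).map tt)⟦q⟧') ↔
      Function.Injective (fun x : HDUO O_C M q (f.fn.obj Y) => x ≫ tt⟦q⟧') := by
  obtain ⟨I, I', hI, hI', φ, e, e', a, a', h1, h2⟩ := exists_model f tt
  rw [injective_postcomp_iff_of_iso _ _ a a' h2 q, injective_postcomp_iff_of_iso _ _ e e' h1 q,
    injective_postcomp_iff_sectInj _ (isPLocal_push f I) (isPLocal_push f I') q Y,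
    injective_postcomp_iff_sectInj _ (isPLocal_of_isKInjective I) (isPLocal_of_isKInjective I') q
      (f.fn.obj Y)]
  exact Iff.rfl

/-- **transfer of surjectivity.** -/
theorem surjective_RF_iff :
    Function.Surjective (fun x : HDUO O_D ((RF (pushKh' f)).obj M) q Y =>
        x ≫ ((RF (pushKh' f)).map tt)⟦q⟧') ↔
      Function.Surjective (fun x : HDUO O_C M q (f.fn.obj Y) => x ≫ tt⟦q⟧') := by
  obtain ⟨I, I', hI, hI', φ, e, e', a, a', h1, h2⟩ := exists_model f tt
  rw [surjective_postcomp_iff_of_iso _ _ a a' h2 q, surjective_postcomp_iff_of_iso _ _ e e' h1 q,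
    surjective_postcomp_iff_sectSurj _ (isPLocal_push f I) (isPLocal_push f I') q Y,
    surjective_postcomp_iff_sectSurj _ (isPLocal_of_isKInjective I)
      (isPLocal_of_isKInjective I') q (f.fn.obj Y)]
  exact Iff.rfl

variable (M) in
/-- **transfer of vanishing.** -/
theorem subsingleton_RF_iff :
    Subsingleton (HDUO O_D ((RF (pushKh' f)).obj M) q Y) ↔
      Subsingleton (HDUO O_C M q (f.fn.obj Y)) := by
  obtain ⟨I, -, hI, -, -, e, -, a, -, -, -⟩ := exists_model f (𝟙 M)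
  have h1 : Subsingleton (HDUO O_D ((RF (pushKh' f)).obj M) q Y) ↔
      Subsingleton (HDUO O_D (Q.obj ((f.push.mapHomologicalComplex (ComplexShape.up ℤ)).obj I))
        q Y) :=
    (postcompShiftEquiv (Z := ZO O_D Y) a q).subsingleton_congr
  have h2 : Subsingleton (HDUO O_C M q (f.fn.obj Y)) ↔
      Subsingleton (HDUO O_C (Q.obj I) q (f.fn.obj Y)) :=
    (postcompShiftEquiv (Z := ZO O_C (f.fn.obj Y)) e q).subsingleton_congr
  rw [h1, h2, subsingleton_HDUO_iff_of_local (isPLocal_push f I) q Y,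
    subsingleton_HDUO_iff_of_local (isPLocal_of_isKInjective I) q (f.fn.obj Y)]
  exact Iff.rfl

end Groth.Agent.H45.PushLocal
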