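import Groth.Agent.H45.PushLocal.QisSect
import Groth.Agent.H6.DerivedProd
import Groth.Agent.H31.FreeOn
import Groth.Prelude.Def_SiteCmp

/-!
# Sectionwise quasi-isomorphisms and products of complexes of modules (helper45)

If `s n : G n ⟶ G' n` are morphisms of complexes of modules which are sectionwise quasi-isomorphisms (SI and SS
over an object `Y`), then so is any morphism `σ : P ⟶ P'` between complexes whose sections are the products of
the sections of the `G n` and of the `G' n`, compatible with the `s n`.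
-/

set_option autoImplicit false
universe t u
open CategoryTheory CategoryTheory.Limits Opposite

namespace Groth.Agent.H45.PushLocal

open Groth.Agent.H31 (freeOnHomEquiv freeOnHomEquiv_naturality freeOnHomEquiv_symm_naturality)

variable {C : Type u} [SmallCategory C] {J : GrothendieckTopology C} {O : Sheaf J CommRingCat.{u}}

/-- the sections of `P` over each object are the product of the sections of the `G n`. -/
def IsSectProd {ι : Type t} {P : CochainComplex (ModSite.Mod O) ℤ}
    {G : ι → CochainComplex (ModSite.Mod O) ℤ} (p : ∀ n, P ⟶ G n) : Prop :=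
  ∀ (k : ℤ) (Y : C), Function.Bijective
    (fun (x : (P.X k).val.obj (op Y)) (n : ι) => ((p n).f k).val.app (op Y) x)

section

variable {ι : Type t} {P P' : CochainComplex (ModSite.Mod O) ℤ}
  {G G' : ι → CochainComplex (ModSite.Mod O) ℤ} (p : ∀ n, P ⟶ G n) (p' : ∀ n, P' ⟶ G' n)
  (hp : IsSectProd p) (hp' : IsSectProd p') (σ : P ⟶ P') (s : ∀ n, G n ⟶ G' n)
  (hσ : ∀ n, σ ≫ p' n = p n ≫ s n)

include hσ in
lemma sect_comm (n : ι) (k : ℤ) (Y : C) (x : (P.X k).val.obj (op Y)) :
    ((p' n).f k).val.app (op Y) ((σ.f k).val.app (op Y) x) =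
      ((s n).f k).val.app (op Y) (((p n).f k).val.app (op Y) x) := by
  have h1 : ((σ ≫ p' n).f k).val.app (op Y) x = ((p n ≫ s n).f k).val.app (op Y) x := by
    rw [hσ]
  exact h1

lemma sect_d_comm {A B : CochainComplex (ModSite.Mod O) ℤ} (g : A ⟶ B) (k k' : ℤ) (Y : C)
    (x : (A.X k).val.obj (op Y)) :
    (B.d k k').val.app (op Y) ((g.f k).val.app (op Y) x) =
      (g.f k').val.app (op Y) ((A.d k k').val.app (op Y) x) := by
  have h1 : (g.f k ≫ B.d k k').val.app (op Y) x = (A.d k k' ≫ g.f k').val.app (op Y) x := by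
    rw [g.comm]
  exact h1

include hp hσ in
theorem sectInj_of_prod (k : ℤ) (Y : C) (h : ∀ n, SectInj (s n) k Y) : SectInj σ k Y := by
  intro q'' q' hq'' hq' x hx hb
  obtain ⟨b, hb⟩ := hb
  have hy : ∀ n, ∃ y : ((G n).X q'').val.obj (op Y),
      ((G n).d q'' k).val.app (op Y) y = ((p n).f k).val.app (op Y) x := by
    intro n
    refine h n q'' q' hq'' hq' _ ?_ ⟨((p' n).f q'').val.app (op Y) b, ?_⟩
    · rw [sect_d_comm, hx, map_zero]
    · rw [sect_d_comm, hb, sect_comm p p' σ s hσ]
  choose y hy using hy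
  obtain ⟨z, hz⟩ := (hp q'' Y).2 y
  refine ⟨z, (hp k Y).1 ?_⟩
  funext n
  change ((p n).f k).val.app (op Y) ((P.d q'' k).val.app (op Y) z) = ((p n).f k).val.app (op Y) x
  rw [← sect_d_comm, ← hy n]
  congr 1
  exact congrFun hz n

include hp hp' hσ in
theorem sectSurj_of_prod (k : ℤ) (Y : C) (h : ∀ n, SectSurj (s n) k Y) : SectSurj σ k Y := by
  intro q'' q' hq'' hq' x' hx'
  have hxb : ∀ n, ∃ (x : ((G n).X k).val.obj (op Y)) (b : ((G' n).X q'').val.obj (op Y)),
      ((G n).d k q').val.app (op Y) x = 0 ∧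
        ((s n).f k).val.app (op Y) x + ((G' n).d q'' k).val.app (op Y) b =
          ((p' n).f k).val.app (op Y) x' := by
    intro n
    refine h n q'' q' hq'' hq' _ ?_
    rw [sect_d_comm, hx', map_zero]
  choose x b hx hxb using hxb
  obtain ⟨X, hX⟩ := (hp k Y).2 x
  obtain ⟨B, hB⟩ := (hp' q'' Y).2 b
  have hXn : ∀ n, ((p n).f k).val.app (op Y) X = x n := fun n => congrFun hX n
  have hBn : ∀ n, ((p' n).f q'').val.app (op Y) B = b n := fun n => congrFun hB n
  refine ⟨X, B, (hp q' Y).1 ?_, (hp' k Y).1 ?_⟩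
  · funext n
    change ((p n).f q').val.app (op Y) ((P.d k q').val.app (op Y) X) =
      ((p n).f q').val.app (op Y) 0
    rw [← sect_d_comm, hXn, hx, map_zero]
  · funext n
    change ((p' n).f k).val.app (op Y)
        ((σ.f k).val.app (op Y) X + (P'.d q'' k).val.app (op Y) B) =
      ((p' n).f k).val.app (op Y) x'
    rw [map_add, sect_comm p p' σ s hσ, ← sect_d_comm, hXn, hBn, hxb]

end

section limit

variable {ι : Type t} [HasLimitsOfShape (Discrete ι) (ModSite.Mod O)]
  {G : ι → CochainComplex (ModSite.Mod O) ℤ} (c : Fan G) (hc : IsLimit c)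

include hc in
/-- the sections of a product of complexes are the products of the sections. -/
theorem isSectProd_of_isLimit : IsSectProd (fun n => c.proj n) := by
  intro k Y
  constructor
  · intro x x' h
    apply (freeOnHomEquiv O Y (c.pt.X k)).symm.injective
    apply Groth.Agent.H6.DerivedProd.homX_ext c hc k
    intro n
    rw [← freeOnHomEquiv_symm_naturality, ← freeOnHomEquiv_symm_naturality]
    congr 1
    exact congrFun h n
  · intro y
    refine ⟨freeOnHomEquiv O Y (c.pt.X k) (Groth.Agent.H6.DerivedProd.liftX c hc k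
      (fun n => (freeOnHomEquiv O Y ((G n).X k)).symm (y n))), ?_⟩
    funext n
    change ((c.proj n).f k).val.app (op Y) _ = y n
    rw [← freeOnHomEquiv_naturality, Groth.Agent.H6.DerivedProd.liftX_proj,
      Equiv.apply_symm_apply]

end limit

section push

variable {D : Type u} [SmallCategory D] {K : GrothendieckTopology D} {O_D : Sheaf K CommRingCat.{u}}
  (f : ModSite.RMor O O_D)
  {ι : Type t} {P : CochainComplex (ModSite.Mod O) ℤ}
  {G : ι → CochainComplex (ModSite.Mod O) ℤ} (p : ∀ n, P ⟶ G n)

/-- the direct image of a sectionwise product is a sectionwise product. -/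
theorem IsSectProd.push (hp : IsSectProd p) :
    IsSectProd (fun n => (f.push.mapHomologicalComplex (ComplexShape.up ℤ)).map (p n)) :=
  fun k Y => hp k (f.fn.obj Y)

end push

end Groth.Agent.H45.PushLocal
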