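import Groth.Agent.H45.PushLocal.LocalAcyclic
import Groth.Agent.H33.KInj.Main
import Mathlib.Algebra.Homology.DerivedCategory.KInjective

/-!
# Morphisms from bounded above complexes of free sums to `PAcyc`-local complexes (helper45)

For a `PAcyc`-local object `G` of the homotopy category and a bounded above complex `T` of direct sums of modules
`j_{V!}O_V`, `Hom_K(T, G) → Hom_D(T, G)` is bijective.
-/

set_option autoImplicit false
universe w u
open CategoryTheory CategoryTheory.Limits Opposite Pretriangulated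

namespace Groth.Agent.H45.PushLocal

variable {D : Type u} [SmallCategory D] {K : GrothendieckTopology D} {O_D : Sheaf K CommRingCat.{u}}
  [HasDerivedCategory.{w} (ModSite.Mod O_D)]

theorem Qh_map_bijective_of_local
    (G : HomotopyCategory (ModSite.Mod O_D) (ComplexShape.up ℤ))
    (hG : (PAcyc O_D).rightOrthogonal G)
    (T : CochainComplex (ModSite.Mod O_D) ℤ) (hT : IsBddFree O_D T) :
    Function.Bijective (DerivedCategory.Qh.map :
      ((HomotopyCategory.quotient _ _).obj T ⟶ G) → _) := by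
  have hGA : IsGrothendieckAbelian.{u} (ModSite.Mod O_D) :=
    Groth.Agent.H33.SheafMod.isGrothendieckAbelian K (ModSite.ringSh O_D)
  obtain ⟨G₀, rfl⟩ := HomotopyCategory.quotient_obj_surjective G
  obtain ⟨I, s₀, hI, hs₀, -, -⟩ := Groth.Agent.H33.KInj.exists_kInjective_resolution G₀
  let X := (HomotopyCategory.quotient (ModSite.Mod O_D) (ComplexShape.up ℤ)).obj T
  let s := (HomotopyCategory.quotient (ModSite.Mod O_D) (ComplexShape.up ℤ)).map s₀
  have hs : HomotopyCategory.quasiIso (ModSite.Mod O_D) (ComplexShape.up ℤ) s :=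
    (HomotopyCategory.quotient_map_mem_quasiIso_iff s₀).2 hs₀
  have hQs : IsIso (DerivedCategory.Qh.map s) :=
    Localization.inverts DerivedCategory.Qh
      (HomotopyCategory.quasiIso (ModSite.Mod O_D) (ComplexShape.up ℤ)) s hs
  rw [HomotopyCategory.quasiIso_eq_trW_subcategoryAcyclic, ObjectProperty.trW_iff] at hs
  obtain ⟨M, g, h, hTri, hM⟩ := hs
  have hIloc : (PAcyc O_D).rightOrthogonal
      ((HomotopyCategory.quotient (ModSite.Mod O_D) (ComplexShape.up ℤ)).obj I) :=
    local_of_kInjective _ (CochainComplex.IsKInjective.rightOrthogonal I)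
  have hMloc : (PAcyc O_D).rightOrthogonal M :=
    (PAcyc O_D).rightOrthogonal.ext_of_isTriangulatedClosed₃ _ hTri hG hIloc
  -- vanishing of maps into `M` and `M[-1]`
  have hz : ∀ φ : X ⟶ M, φ = 0 := fun φ => eq_zero_of_acyclic_of_local M hM hMloc T hT φ
  have hz' : ∀ φ : X ⟶ M⟦(-1 : ℤ)⟧, φ = 0 := fun φ =>
    eq_zero_of_acyclic_of_local _
      ((HomotopyCategory.subcategoryAcyclic (ModSite.Mod O_D)).le_shift (-1) _ hM)
      ((PAcyc O_D).rightOrthogonal.le_shift (-1) _ hMloc) T hT φ
  -- `s_*` is bijective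
  have hinj : ∀ α : X ⟶ (HomotopyCategory.quotient _ _).obj G₀, α ≫ s = 0 → α = 0 := by
    intro α hα
    obtain ⟨β, hβ⟩ := Triangle.coyoneda_exact₂ _ (inv_rot_of_distTriang _ hTri) α hα
    rw [hβ, hz' β]
    exact zero_comp
  have hsurj : ∀ β : X ⟶ (HomotopyCategory.quotient _ _).obj I, ∃ α, α ≫ s = β := by
    intro β
    obtain ⟨α, hα⟩ := Triangle.coyoneda_exact₂ _ hTri β (hz _)
    exact ⟨α, hα.symm⟩
  have hKI := CochainComplex.IsKInjective.Qh_map_bijective X I
  constructor
  · intro α₁ α₂ h12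
    have h1 : DerivedCategory.Qh.map (α₁ ≫ s) = DerivedCategory.Qh.map (α₂ ≫ s) := by
      rw [Functor.map_comp, Functor.map_comp]
      exact congrArg (· ≫ DerivedCategory.Qh.map s) h12
    have h2 : α₁ ≫ s = α₂ ≫ s := hKI.1 h1
    have h3 : (α₁ - α₂) ≫ s = 0 := by rw [Preadditive.sub_comp, h2, sub_self]
    exact sub_eq_zero.1 (hinj _ h3)
  · intro γ
    obtain ⟨β, hβ⟩ := hKI.2 (γ ≫ DerivedCategory.Qh.map s)
    obtain ⟨α, hα⟩ := hsurj β
    refine ⟨α, ?_⟩
    rw [← cancel_mono (DerivedCategory.Qh.map s), ← Functor.map_comp, hα]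
    exact hβ

end Groth.Agent.H45.PushLocal
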