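import Groth.Agent.H30.KInjCls
import Groth.Agent.H45.PushLocal.QhBijective

/-!
# Classes of cocycles into complexes for which `Hom_K → Hom_D` is bijective (helper45)

Generalisation of `Groth.Agent.H30.KInjCls` from K-injective targets to targets `L` for which
`Hom_K(K, L[n]) → Hom_D(K, L[n])` is bijective.
-/

set_option autoImplicit false
universe w v u
open CategoryTheory CategoryTheory.Limits CochainComplex HomComplex DerivedCategory Localization

namespace Groth.Agent.H45.PushLocal

open Groth.Agent.H30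

section abstract

variable {C : Type u} [Category.{v} C] [Abelian C]

section

variable (K L : CochainComplex C ℤ) (n : ℤ)
  [HasSmallLocalizedShiftedHom.{w} (HomologicalComplex.quasiIso C (.up ℤ)) ℤ K L]

lemma bijective_toSmallShiftedHom_of_Qh
    (h : letI := HasDerivedCategory.standard C
      Function.Bijective (DerivedCategory.Qh.map :
        ((HomotopyCategory.quotient _ _).obj K ⟶ (HomotopyCategory.quotient _ _).obj (L⟦n⟧)) → _)) :
    Function.Bijective (CohomologyClass.toSmallShiftedHom.{w} (K := K) (L := L) (n := n)) := by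
  let := HasDerivedCategory.standard C
  rw [← Function.Bijective.of_comp_iff'
      (SmallShiftedHom.equiv _ DerivedCategory.Q).bijective,
    ← Function.Bijective.of_comp_iff' (Iso.homCongr ((quotientCompQhIso C).symm.app K)
      ((Q.commShiftIso n).symm.app L ≪≫ (quotientCompQhIso C).symm.app (L⟦n⟧))).bijective]
  convert! h.comp (CohomologyClass.toHom_bijective K L n)
  ext x
  obtain ⟨x, rfl⟩ := x.mk_surjective
  simp [CohomologyClass.toHom_mk, ShiftedHom.map]

end

variable [HasDerivedCategory.{w} C] (K L : CochainComplex C ℤ) (n : ℤ)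

lemma toD_surjective_of
    (hb : Function.Bijective (CohomologyClass.toSmallShiftedHom.{w} (K := K) (L := L) (n := n))) :
    Function.Surjective (KInjCls.toD K L n) := by
  intro α
  obtain ⟨β, hβ⟩ := (SmallShiftedHom.equiv.{w} (HomologicalComplex.quasiIso C (.up ℤ))
    DerivedCategory.Q (X := K) (Y := L) (m := n)).surjective α
  obtain ⟨γ, hγ⟩ := hb.2 β
  obtain ⟨x, rfl⟩ := γ.mk_surjective
  exact ⟨x, by rw [KInjCls.toD_eq, hγ, hβ]⟩

lemma toD_eq_zero_iff_of
    (hb : Function.Bijective (CohomologyClass.toSmallShiftedHom.{w} (K := K) (L := L) (n := n)))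
    (x : Cocycle K L n) :
    KInjCls.toD K L n x = 0 ↔ x ∈ coboundaries K L n := by
  rw [← CohomologyClass.mk_eq_zero_iff]
  constructor
  · intro h
    apply hb.1
    apply (SmallShiftedHom.equiv.{w} (HomologicalComplex.quasiIso C (.up ℤ))
      DerivedCategory.Q (X := K) (Y := L) (m := n)).injective
    rw [← KInjCls.toD_eq, h, ← CohomologyClass.mk_zero K L n, ← KInjCls.toD_eq, KInjCls.toD_zero]
  · intro h
    rw [KInjCls.toD_eq, h, ← CohomologyClass.mk_zero K L n, ← KInjCls.toD_eq, KInjCls.toD_zero]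

section single

variable {L} {X : C} {q : ℤ} (q' : ℤ) (hq' : q + 1 = q')

lemma cls_surjective_of
    (hb : Function.Bijective (CohomologyClass.toSmallShiftedHom.{w}
      (K := (CochainComplex.singleFunctor C 0).obj X) (L := L) (n := q)))
    (α : Q.obj ((CochainComplex.singleFunctor C 0).obj X) ⟶ (Q.obj L)⟦q⟧) :
    ∃ (φ : X ⟶ L.X q) (hφ : φ ≫ L.d q q' = 0), KInjCls.cls q' hq' φ hφ = α := by
  obtain ⟨x, hx⟩ := toD_surjective_of ((CochainComplex.singleFunctor C 0).obj X) L q hb α
  obtain ⟨φ, hφ, rfl⟩ := Cocycle.fromSingleMk_surjective x q (zero_add q) q' hq'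
  exact ⟨φ, hφ, hx⟩

lemma cls_eq_zero_iff_of
    (hb : Function.Bijective (CohomologyClass.toSmallShiftedHom.{w}
      (K := (CochainComplex.singleFunctor C 0).obj X) (L := L) (n := q)))
    (φ : X ⟶ L.X q) (hφ : φ ≫ L.d q q' = 0)
    (q'' : ℤ) (hq'' : q'' + 1 = q) :
    KInjCls.cls q' hq' φ hφ = 0 ↔ ∃ g : X ⟶ L.X q'', g ≫ L.d q'' q = φ := by
  dsimp only [KInjCls.cls]
  rw [toD_eq_zero_iff_of _ _ _ hb,
    Cocycle.fromSingleMk_mem_coboundaries_iff φ (zero_add q) q' hq' hφ q'' hq'']

end single

end abstract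

end Groth.Agent.H45.PushLocal
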