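import Groth.Agent.H45.PushLocal.StabRF
import Groth.Agent.H45.RlimModW.VanishO

/-!
# `Rf_*` maps `D^+_A(O_C)` to `D^+_{A'}(O_D)` and `D_A(O_C)` to `D_{A'}(O_D)` (helper45)

For an arbitrary morphism of ringed sites `f`, weak Serre subcategories `A ⊂ Mod(O_C)`, `A' ⊂ Mod(O_D)` with
`R^p f_* F ∈ A'` for `F ∈ A`: the unbounded `Rf_*` is left t-exact, maps `D^+_A` to `D^+_{A'}`, and, under
cohomological dimension bounds and `R^p f_* F = 0` for `p > N`, maps `D_A` to `D_{A'}`.
-/

set_option autoImplicit false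
universe w w' u
open CategoryTheory CategoryTheory.Limits Opposite DerivedCategory Pretriangulated

namespace Groth.Agent.H45.PushLocal

open Groth.Agent.H5.KInjDeriv Groth.Agent.H33.DerComp Groth.Agent.H45.RlimModW Groth.Agent.H16

variable {C : Type u} [SmallCategory C] {J : GrothendieckTopology C} {O_C : Sheaf J CommRingCat.{u}}
  {D : Type u} [SmallCategory D] {K : GrothendieckTopology D} {O_D : Sheaf K CommRingCat.{u}}
  (f : ModSite.RMor O_C O_D)
  [HasDerivedCategory.{w} (ModSite.Mod O_C)] [HasDerivedCategory.{w'} (ModSite.Mod O_D)]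
  [(pushKh' f).HasRightDerivedFunctor
    (HomotopyCategory.quasiIso (ModSite.Mod O_C) (ComplexShape.up ℤ))]

/-- **`Rf_*` is left t-exact.** -/
theorem isGE_RF (M : DerivedCategory (ModSite.Mod O_C)) (b : ℤ) [M.IsGE b] :
    ((RF (pushKh' f)).obj M).IsGE b := by
  rw [isGE_iff]
  intro i hi
  refine isZero_homology_of_subsingleton_HDUO O_D _ i Set.univ (fun U => ?_) (fun V _ => ?_)
  · refine ⟨PUnit, fun _ => U, fun _ => 𝟙 U, ?_, fun _ => Set.mem_univ _⟩
    have : Sieve.ofArrows (fun _ : PUnit.{u + 1} => U) (fun _ => 𝟙 U) = ⊤ := by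
      rw [← Sieve.id_mem_iff_eq_top]
      exact Sieve.ofArrows_mk (fun _ : PUnit.{u + 1} => U) (fun _ => 𝟙 U) PUnit.unit
    rw [this]
    exact K.top_mem U
  · rw [subsingleton_RF_iff f M i V]
    have hM : M.IsGE (i + 1) := TStructure.t.isGE_of_ge _ (i + 1) b (by omega)
    have hGE' : (M⟦i⟧).IsGE 1 := TStructure.t.isGE_shift _ (i + 1) i 1 (by omega)
    have hLE : (ZO O_C (f.fn.obj V)).IsLE 0 := by
      change ((DerivedCategory.singleFunctor (ModSite.Mod O_C) 0).obj
        (ModSite.freeOn O_C (f.fn.obj V))).IsLE 0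
      infer_instance
    exact ⟨fun x y => (TStructure.t.zero_of_isLE_of_isGE x 0 1 (by omega) hLE hGE').trans
      (TStructure.t.zero_of_isLE_of_isGE y 0 1 (by omega) hLE hGE').symm⟩

variable [HasInjectiveResolutions (ModSite.Mod O_C)]
  (A : ObjectProperty (ModSite.Mod O_C)) [WSerre.IsWeakSerre A]
  (A' : ObjectProperty (ModSite.Mod O_D)) [WSerre.IsWeakSerre A']
  (h3 : ∀ F : ModSite.Mod O_C, A F → ∀ p : ℕ, A' ((f.Rpush p).obj F))

include h3 in
lemma cohIn_RF_single (G : ModSite.Mod O_C) (hG : A G) (b : ℤ)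
    (Z : DerivedCategory (ModSite.Mod O_C)) (e : Z ≅ (singleFunctor (ModSite.Mod O_C) b).obj G) :
    WSerre.cohIn A' ((RF (pushKh' f)).obj Z) := by
  intro q
  obtain ⟨h1, h2⟩ := homology_RG_single (hKinj_mod O_C) f.push G b Z e q
  by_cases hqb : q < b
  · exact A'.prop_of_isZero (h1 hqb)
  · obtain ⟨e'⟩ := h2 (q - b).toNat (by rw [Int.toNat_of_nonneg (by omega)]; ring)
    exact A'.prop_of_iso e'.symm (h3 G hG _)

include h3 in
/-- bounded objects with cohomology in `A` are sent to objects with cohomology in `A'`. -/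
lemma cohIn_RF_of_bounded (k : ℕ) :
    ∀ (Z : DerivedCategory (ModSite.Mod O_C)) (e : ℤ), Z.IsGE (e + 1 - k) → Z.IsLE e →
      WSerre.cohIn A Z → WSerre.cohIn A' ((RF (pushKh' f)).obj Z) := by
  induction k with
  | zero =>
    intro Z e hGE hLE _
    have hGE' : Z.IsGE (e + 1) := by simpa using hGE
    have hZ : IsZero Z := TStructure.t.isZero Z e (e + 1) (by omega)
    exact Groth.Agent.H45.cohIn_of_isZero A' ((RF (pushKh' f)).map_isZero hZ)
  | succ k ih =>
    intro Z e hGE hLE hZ
    have hGE' : Z.IsGE (e - k) := by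
      have : e + 1 - ((k + 1 : ℕ) : ℤ) = e - k := by push_cast; ring
      rw [← this]
      exact hGE
    have hT := TStructure.t.triangleLTGE_distinguished e Z
    obtain ⟨w, hT'⟩ := exists_distinguished_mapHomotopy (hKinj_mod O_C) f.push _ hT
    -- the first object
    have h₁ : WSerre.cohIn A' ((RF (pushKh' f)).obj ((TStructure.t.truncLT e).obj Z)) := by
      refine ih _ (e - 1) ?_ ?_ ?_
      · have : e - 1 + 1 - (k : ℤ) = e - k := by ring
        rw [this]
        infer_instance
      · infer_instance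
      · intro q
        by_cases hq : q < e
        · have := Groth.Agent.H45.isIso_homologyMap_truncLTι Z e q hq
          exact A.prop_of_iso
            (asIso ((homologyFunctor _ q).map ((TStructure.t.truncLTι e).app Z))).symm (hZ q)
        · apply A.prop_of_isZero
          exact isZero_of_isLE _ (e - 1) q (by omega)
    -- the third object
    have h₃ : WSerre.cohIn A' ((RF (pushKh' f)).obj ((TStructure.t.truncGE e).obj Z)) := by
      obtain ⟨G, ⟨iso⟩⟩ := exists_iso_singleFunctor_obj_of_isGE_of_isLE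
        ((TStructure.t.truncGE e).obj Z) e
      have := Groth.Agent.H45.isIso_homologyMap_truncGEπ Z e e le_rfl
      have eG : (homologyFunctor (ModSite.Mod O_C) e).obj Z ≅ G :=
        asIso ((homologyFunctor _ e).map ((TStructure.t.truncGEπ e).app Z)) ≪≫
          (homologyFunctor _ e).mapIso iso ≪≫ (singleFunctorCompHomologyFunctorIso _ e).app G
      have hG : A G := A.prop_of_iso eG (hZ e)
      exact cohIn_RF_single f A A' h3 G hG e _ iso
    exact Groth.Agent.H45.cohIn_obj₂_of_distTriang A' _ hT' h₁ h₃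

include h3 in
/-- **`Rf_*` maps `D^+_A(O_C)` to `D^+_{A'}(O_D)`.** -/
theorem cohInPlus_RF (M : DerivedCategory (ModSite.Mod O_C)) (hM : WSerre.cohInPlus A M) :
    WSerre.cohInPlus A' ((RF (pushKh' f)).obj M) := by
  obtain ⟨hA, b, hb⟩ := hM
  have hb : M.IsGE b := hb
  refine ⟨fun j => ?_, b, isGE_RF f M b⟩
  -- `H^j(Rf_* τ_{< j+1} M) ≅ H^j(Rf_* M)`
  have hT := TStructure.t.triangleLTGE_distinguished (j + 1) M
  obtain ⟨w, hT'⟩ := exists_distinguished_mapHomotopy (hKinj_mod O_C) f.push _ hT
  have hGE : ((RF (pushKh' f)).obj ((TStructure.t.truncGE (j + 1)).obj M)).IsGE (j + 1) :=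
    isGE_RF f _ (j + 1)
  have hiso := Groth.Agent.H45.isIso_homologyMap_mor₁ _ hT' (j - 1) j (by omega)
    (@isZero_of_isGE _ _ _ _ _ (j + 1) (j - 1) (by omega) hGE)
    (@isZero_of_isGE _ _ _ _ _ (j + 1) j (by omega) hGE)
  have hbdd : WSerre.cohIn A' ((RF (pushKh' f)).obj ((TStructure.t.truncLT (j + 1)).obj M)) := by
    refine cohIn_RF_of_bounded f A A' h3 (j + 1 - b).toNat _ j ?_ inferInstance ?_
    · by_cases hjb : b ≤ j + 1
      · have : j + 1 - ((j + 1 - b).toNat : ℤ) = b := by
          rw [Int.toNat_of_nonneg (by omega)]; ring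
        rw [this]
        infer_instance
      · have : j + 1 - ((j + 1 - b).toNat : ℤ) = j + 1 := by
          rw [Int.toNat_eq_zero.2 (by omega)]; simp
        rw [this]
        have : ((TStructure.t.truncLT (j + 1)).obj M).IsGE b := inferInstance
        exact TStructure.t.isGE_of_ge _ (j + 1) b (by omega)
    · intro q
      by_cases hq : q < j + 1
      · have := Groth.Agent.H45.isIso_homologyMap_truncLTι M (j + 1) q hq
        exact A.prop_of_iso
          (asIso ((homologyFunctor _ q).map ((TStructure.t.truncLTι (j + 1)).app M))).symm (hA q)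
      · apply A.prop_of_isZero
        exact isZero_of_isLE _ j q (by omega)
  exact A'.prop_of_iso (@asIso _ _ _ _ _ hiso) (hbdd j)

end Groth.Agent.H45.PushLocal
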