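import Groth.Agent.H45.PushLocal.CohInRF

/-!
# `Rf_*` maps `D_A(O_C)` to `D_{A'}(O_D)` (helper45)
-/

set_option autoImplicit false
universe w w' u
open CategoryTheory CategoryTheory.Limits Opposite DerivedCategory Pretriangulated

namespace Groth.Agent.H45.PushLocal

open Groth.Agent.H5.KInjDeriv Groth.Agent.H33.DerComp Groth.Agent.H45.RlimModW Groth.Agent.H16

variable {C : Type u} [SmallCategory C] {J : GrothendieckTopology C} {O_C : Sheaf J CommRingCat.{u}}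
  {D : Type u} [SmallCategory D] {K : GrothendieckTopology D} {O_D : Sheaf K CommRingCat.{u}}
  (f : ModSite.RMor O_C O_D)
  [HasDerivedCategory.{w} (ModSite.Mod O_C)] [HasDerivedCategory.{w'} (ModSite.Mod O_D)]
  [(pushKh' f).HasRightDerivedFunctor
    (HomotopyCategory.quasiIso (ModSite.Mod O_C) (ComplexShape.up ℤ))]
  [HasInjectiveResolutions (ModSite.Mod O_C)]

/-- **`Rf_*` maps `D_A(O_C)` to `D_{A'}(O_D)`, and `H^j(Rf_* K) = H^j(Rf_* τ_{≥ -n} K)` for `j ≥ N - n`.** -/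
theorem cohIn_RF_and_stabilisation
    (A : ObjectProperty (ModSite.Mod O_C)) [WSerre.IsWeakSerre A]
    (A' : ObjectProperty (ModSite.Mod O_D)) [WSerre.IsWeakSerre A']
    (B : Set C) (B' : Set D)
    (hB : ∀ U : C, ∃ (ι : Type u) (Y : ι → C) (g : ∀ i, Y i ⟶ U),
      Sieve.ofArrows Y g ∈ J U ∧ ∀ i, Y i ∈ B)
    (hA : ∀ V ∈ B, ∃ d : ℕ, ∀ T ∈ J V, ∃ (ι : Type u) (Y : ι → C) (g : ∀ i, Y i ⟶ V),
      (∀ i, T.arrows (g i)) ∧ Sieve.ofArrows Y g ∈ J V ∧
      ∀ i, Groth.Agent.H45.RlimModW.Good O_C A d (Y i))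
    (hB' : ∀ U : D, ∃ (ι : Type u) (Y : ι → D) (g : ∀ i, Y i ⟶ U),
      Sieve.ofArrows Y g ∈ K U ∧ ∀ i, Y i ∈ B')
    (hA' : ∀ V ∈ B', ∃ d : ℕ, ∀ T ∈ K V, ∃ (ι : Type u) (Y : ι → D) (g : ∀ i, Y i ⟶ V),
      (∀ i, T.arrows (g i)) ∧ Sieve.ofArrows Y g ∈ K V ∧
      ∀ i, Groth.Agent.H45.RlimModW.Good O_D A' d (Y i))
    (N : ℤ)
    (h3 : ∀ F : ModSite.Mod O_C, A F → ∀ p : ℕ, A' ((f.Rpush p).obj F))
    (h4 : ∀ F : ModSite.Mod O_C, A F → ∀ p : ℕ, N < (p : ℤ) → IsZero ((f.Rpush p).obj F))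
    (X : DerivedCategory (ModSite.Mod O_C)) (hX : WSerre.cohIn A X) :
    WSerre.cohIn A' ((RF (pushKh' f)).obj X) ∧
      ∀ (n : ℕ) (j : ℤ), N - (n : ℤ) ≤ j →
        IsIso ((homologyFunctor (ModSite.Mod O_D) j).map
          ((RF (pushKh' f)).map (CohCx.toTruncTower X n))) := by
  haveI hprodC : ∀ E : ℕ → DerivedCategory (ModSite.Mod O_C), HasProduct E :=
    fun E => hasProduct_derived_mod O_C E
  haveI hprodD : ∀ E : ℕ → DerivedCategory (ModSite.Mod O_D), HasProduct E :=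
    fun E => hasProduct_derived_mod O_D E
  have hRlim := rlimHyp_of_good A B hB hA X hX
  have hR := isRlimVia_RF f _ _ X _ hRlim
  have hvan : ∀ (q : ℤ) (p : ℕ), N < (p : ℤ) → IsZero ((f.Rpush p).obj
      ((homologyFunctor (ModSite.Mod O_C) q).obj X)) := fun q p hp => h4 _ (hX q) p hp
  have hplus : ∀ n, WSerre.cohInPlus A' ((RF (pushKh' f)).obj (CohCx.truncTower X n)) :=
    fun n => cohInPlus_RF f A A' h3 _ (Groth.Agent.H45.UEq.cohInPlus_truncTower A X hX n)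
  have hc := isIso_homologyMap_of_eventually_constant O_D A' B' hB' hA' _ _ hplus
    (fun j => ⟨(N - j).toNat, fun n hn =>
      isIso_homologyMap_RF_truncTowerMap f X n N (hvan _) j (by omega)⟩) _ _ hR
  have hb : ∀ (n : ℕ) (j : ℤ), N - (n : ℤ) ≤ j →
      IsIso ((homologyFunctor (ModSite.Mod O_D) j).map
        ((RF (pushKh' f)).map (CohCx.toTruncTower X n))) := by
    intro n j hj
    obtain ⟨n₀, hn₀⟩ := hc j
    have h1 := hn₀ (n + n₀) (by omega)
    have h2 := isIso_homologyMap_RF_transition f X N hvan n j hj n₀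
    have h3' := RlimInjA.a_comp_transition hRlim n n₀
    rw [← h3', Functor.map_comp, Functor.map_comp]
    infer_instance
  refine ⟨fun j => ?_, hb⟩
  have := hb (N - j).toNat j (by omega)
  exact A'.prop_of_iso (asIso ((homologyFunctor (ModSite.Mod O_D) j).map
    ((RF (pushKh' f)).map (CohCx.toTruncTower X (N - j).toNat)))).symm ((hplus _).1 j)

end Groth.Agent.H45.PushLocal
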