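import Groth.Agent.H31.ResShift
import Groth.Agent.H31.DimShift

/-!
# Dimension shifting along a bounded above acyclic complex (helper45)

* `exists_factor_of_acyclic`: if `E` is an acyclic cochain complex, zero in degrees `> b`, whose terms have no higher
  `Ext` into `M`, then `Hom(E, M)` is acyclic: a morphism `g : E^k ⟶ M` killed by `d^{k-1}` factors through `d^k`.
* `exact_of_injective_test`: a short complex is exact if `Hom(-, I)` of it is exact for every injective `I`.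
-/

set_option autoImplicit false
universe w v u
open CategoryTheory CategoryTheory.Limits Abelian

namespace Groth.Agent.H45.PushLocal

open Groth.Agent.H31

section DS

variable {𝒜 : Type u} [Category.{v} 𝒜] [Abelian 𝒜] [HasExt.{w} 𝒜]

lemma acyc_of_isZero (M : 𝒜) {Z : 𝒜} (hZ : IsZero Z) : ResShift.Acyc M Z := by
  intro j
  refine subsingleton_of_forall_eq 0 fun x => ?_
  have h1 : x = (Ext.mk₀ (𝟙 Z)).comp x (zero_add _) := (Ext.mk₀_id_comp x).symm
  rw [h1, hZ.eq_of_src (𝟙 Z) 0, Ext.mk₀_zero, Ext.zero_comp]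

end DS

section Cycles

variable {𝒜 : Type u} [Category.{v} 𝒜] [Abelian 𝒜]

variable (E : CochainComplex 𝒜 ℤ)

/-- the cycles in degree `n`, as a kernel. -/
noncomputable abbrev Zk (n : ℤ) : 𝒜 := kernel (E.d n (n + 1))

/-- the canonical map `E^n ⟶ Z^{n+1}`. -/
noncomputable def toZk (n : ℤ) : E.X n ⟶ Zk E (n + 1) :=
  kernel.lift _ (E.d n (n + 1)) (E.d_comp_d _ _ _)

@[reassoc (attr := simp)]
lemma toZk_ι (n : ℤ) : toZk E n ≫ kernel.ι (E.d (n + 1) (n + 1 + 1)) = E.d n (n + 1) :=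
  kernel.lift_ι _ _ _

/-- the short complex `0 → Z^n → E^n → Z^{n+1} → 0`. -/
noncomputable def sesZ (n : ℤ) : ShortComplex 𝒜 :=
  ShortComplex.mk (kernel.ι (E.d n (n + 1))) (toZk E n) (by
    rw [← cancel_mono (kernel.ι (E.d (n + 1) (n + 1 + 1))), Category.assoc, toZk_ι,
      kernel.condition, zero_comp])

lemma exactAt_iff_sc' (n : ℤ) :
    E.ExactAt (n + 1) ↔ (E.sc' n (n + 1) (n + 1 + 1)).Exact :=
  E.exactAt_iff' n (n + 1) (n + 1 + 1) (by simp) (by simp)

lemma sesZ_shortExact (n : ℤ) (h : E.ExactAt (n + 1)) : (sesZ E n).ShortExact := by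
  have hex : (sesZ E n).Exact := by
    refine ShortComplex.exact_of_f_is_kernel _ ?_
    exact isKernelOfComp (kernel.ι (E.d (n + 1) (n + 1 + 1))) (E.d n (n + 1))
      (kernelIsKernel (E.d n (n + 1))) _ (toZk_ι E n)
  have hepi : Epi (sesZ E n).g := by
    have h1 := (exactAt_iff_sc' E n).1 h
    exact (ShortComplex.exact_iff_epi_kernel_lift _).1 h1
  have hmono : Mono (sesZ E n).f := by
    change Mono (kernel.ι _)
    infer_instance
  exact ShortComplex.ShortExact.mk hex

end Cycles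

section DS

variable {𝒜 : Type u} [Category.{v} 𝒜] [Abelian 𝒜] [HasExt.{w} 𝒜]

variable (E : CochainComplex 𝒜 ℤ)

variable {E} in
/-- all cycle objects are `Hom(-, M)`-acyclic. -/
lemma acyc_Zk (M : 𝒜) (b : ℤ) (hb : ∀ i, b < i → IsZero (E.X i)) (hE : ∀ n, E.ExactAt n)
    (hM : ∀ n, ResShift.Acyc M (E.X n)) : ∀ n, ResShift.Acyc M (Zk E n) := by
  have hzero : ∀ n, b < n → ResShift.Acyc M (Zk E n) := by
    intro n hn
    apply acyc_of_isZero
    exact IsZero.of_mono (kernel.ι (E.d n (n + 1))) (hb n hn)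
  have hind : ∀ (m : ℕ) (n : ℤ), b + 1 - m ≤ n → ResShift.Acyc M (Zk E n) := by
    intro m
    induction m with
    | zero =>
      intro n hn
      exact hzero n (by push_cast at hn; omega)
    | succ m ih =>
      intro n hn
      have h1 : ResShift.Acyc M (Zk E (n + 1)) := ih (n + 1) (by push_cast at hn ⊢; omega)
      exact ResShift.acyc_X₁ (sesZ_shortExact E n (hE _)) (hM n) h1
  intro n
  exact hind (b + 1 - n).toNat n (by omega)

variable {E} in
/-- **`Hom(E, M)` is acyclic.** -/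
theorem exists_factor_of_acyclic (M : 𝒜) (b : ℤ) (hb : ∀ i, b < i → IsZero (E.X i))
    (hE : ∀ n, E.ExactAt n) (hM : ∀ n, ResShift.Acyc M (E.X n)) (k : ℤ) (g : E.X (k + 1) ⟶ M)
    (hg : E.d k (k + 1) ≫ g = 0) :
    ∃ h : E.X (k + 1 + 1) ⟶ M, E.d (k + 1) (k + 1 + 1) ≫ h = g := by
  have hZ := acyc_Zk M b hb hE hM
  -- `g` kills the cycles
  have hS := sesZ_shortExact E k (hE _)
  have h1 : kernel.ι (E.d (k + 1) (k + 1 + 1)) ≫ g = 0 := by
    haveI : Epi (toZk E k) := hS.epi_g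
    rw [← cancel_epi (toZk E k), ← Category.assoc, toZk_ι, hg, comp_zero]
  -- so it factors through `Z^{k+2}`
  have hS' := sesZ_shortExact E (k + 1) (hE _)
  haveI : Epi (sesZ E (k + 1)).g := hS'.epi_g
  let gbar : Zk E (k + 1 + 1) ⟶ M := hS'.exact.desc g h1
  have hgbar : toZk E (k + 1) ≫ gbar = g := hS'.exact.g_desc g h1
  -- extend along `Z^{k+2} ⟶ E^{k+2}`
  have hS'' := sesZ_shortExact E (k + 1 + 1) (hE _)
  haveI : Subsingleton (Ext (sesZ E (k + 1 + 1)).X₃ M 1) := hZ _ 0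
  obtain ⟨h, hh⟩ := ResShift.exists_extension hS'' gbar
  refine ⟨h, ?_⟩
  have hh' : kernel.ι (E.d (k + 1 + 1) (k + 1 + 1 + 1)) ≫ h = gbar := hh
  rw [← toZk_ι E (k + 1), Category.assoc, hh', hgbar]

end DS

section IT

variable {𝒜 : Type u} [Category.{v} 𝒜] [Abelian 𝒜] [EnoughInjectives 𝒜]

/-- **Injective test for exactness.** -/
theorem exact_of_injective_test (S : ShortComplex 𝒜)
    (h : ∀ (I : 𝒜) [Injective I] (g : S.X₂ ⟶ I), S.f ≫ g = 0 → ∃ k : S.X₃ ⟶ I, S.g ≫ k = g) :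
    S.Exact := by
  rw [ShortComplex.exact_iff_mono_cokernel_desc]
  let c := cokernel.desc S.f S.g S.zero
  let I := Injective.under (cokernel S.f)
  let ι : cokernel S.f ⟶ I := Injective.ι _
  obtain ⟨k, hk⟩ := h I (cokernel.π S.f ≫ ι) (by rw [← Category.assoc, cokernel.condition, zero_comp])
  have h1 : c ≫ k = ι := by
    rw [← cancel_epi (cokernel.π S.f), ← Category.assoc, cokernel.π_desc, hk]
  exact mono_of_mono_fac h1

end IT

end Groth.Agent.H45.PushLocal
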