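import Groth.Agent.H45.PushLocal.PLocal

/-!
# Acyclic `PAcyc`-local complexes receive no maps from bounded above complexes of free sums (helper45)
-/

set_option autoImplicit false
universe u
open CategoryTheory CategoryTheory.Limits Opposite

namespace Groth.Agent.H45.PushLocal

variable {D : Type u} [SmallCategory D] {K : GrothendieckTopology D} {O_D : Sheaf K CommRingCat.{u}}

/-- An acyclic `PAcyc`-local object of the homotopy category receives only the zero map from a bounded above complex
of direct sums of modules `j_{V!}O_V`. -/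
theorem eq_zero_of_acyclic_of_local
    (M : HomotopyCategory (ModSite.Mod O_D) (ComplexShape.up ℤ))
    (hM : HomotopyCategory.subcategoryAcyclic (ModSite.Mod O_D) M)
    (hloc : (PAcyc O_D).rightOrthogonal M)
    (T : CochainComplex (ModSite.Mod O_D) ℤ) (hT : IsBddFree O_D T)
    (φ : (HomotopyCategory.quotient _ _).obj T ⟶ M) : φ = 0 := by
  obtain ⟨M₀, rfl⟩ := HomotopyCategory.quotient_obj_surjective M
  obtain ⟨x, rfl⟩ := (HomotopyCategory.quotient _ _).map_surjective φ
  have hacyc : M₀.Acyclic := (HomotopyCategory.quotient_obj_mem_subcategoryAcyclic_iff_acyclic M₀).1 hM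
  obtain ⟨j, hj⟩ := hT.bdd
  -- truncate
  let L := CochainComplex.truncLE M₀ j
  let ι := CochainComplex.ιTruncLE M₀ j
  let x' : T ⟶ L := inv (CochainComplex.ιTruncLE T j) ≫ CochainComplex.truncLEMap x j
  have hx' : x' ≫ ι = x := by
    change (inv (CochainComplex.ιTruncLE T j) ≫ CochainComplex.truncLEMap x j) ≫ CochainComplex.ιTruncLE M₀ j = x
    rw [Category.assoc, CochainComplex.ιTruncLE_naturality, IsIso.inv_hom_id_assoc]
  have hL : L.Acyclic := by
    rw [CochainComplex.acyclic_truncLE_iff M₀ j (j + 1) rfl, CochainComplex.isGE_iff]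
    exact fun i _ => hacyc i
  -- resolve
  obtain ⟨R⟩ := nonempty_boundedRelRes (P := IsFreeSum O_D) (exists_isFreeSum_epi O_D)
    (fun Z hZ => isFreeSum_of_isZero hZ) x' j
  have hB : IsBddFree O_D R.B := by
    refine ⟨⟨j, R.hB⟩, fun n => ?_⟩
    obtain ⟨Q, e, hQ, -⟩ := R.split n
    exact ((hT.free n).biprod hQ).of_iso e.symm
  have hBacyc : R.B.Acyclic := by
    intro n
    haveI : QuasiIsoAt R.f n := R.qi.quasiIsoAt n
    rw [_root_.exactAt_iff_of_quasiIsoAt R.f n]
    exact hL n
  have h0 : (HomotopyCategory.quotient _ _).map (R.f ≫ ι) = 0 :=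
    hloc _ ⟨R.B, hB, hBacyc, ⟨Iso.refl _⟩⟩
  have hx : x = R.ι ≫ R.f ≫ ι := by
    rw [← Category.assoc, R.fac, hx']
  rw [hx, Functor.map_comp, h0, comp_zero]

end Groth.Agent.H45.PushLocal
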