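import Groth.Agent.H45.PushLocal.PullAcyclic
import Groth.Agent.H45.Resolution.BoundedRes
import Groth.Agent.H33.DerAdjU
import Groth.Prelude.Def_SiteCmp
import Mathlib.Algebra.Homology.HomotopyCategory.Acyclic
import Mathlib.Algebra.Homology.HomotopyCategory.KInjective
import Mathlib.CategoryTheory.Triangulated.Orthogonal

/-!
# Complexes right orthogonal to the bounded above acyclic complexes of free sums (helper45)

`PAcyc O` is the class of objects of the homotopy category of complexes of `O`-modules isomorphic to an acyclic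
complex, zero in large degrees, whose terms are direct sums of modules `j_{V!}O_V`.  Its right orthogonal contains the
direct images `f_* I` of the K-injective complexes `I` (`pushLocal`), and an acyclic complex in this right orthogonal
receives no nonzero map in the homotopy category from a bounded above complex of such direct sums
(`eq_zero_of_acyclic_of_local`).
-/

set_option autoImplicit false
universe u
open CategoryTheory CategoryTheory.Limits Opposite

namespace Groth.Agent.H45.PushLocal

section Defs

variable {D : Type u} [SmallCategory D] {K : GrothendieckTopology D} (O_D : Sheaf K CommRingCat.{u})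

/-- bounded above complexes whose terms are direct sums of modules `j_{V!}O_V`. -/
structure IsBddFree (E : CochainComplex (ModSite.Mod O_D) ℤ) : Prop where
  bdd : ∃ b : ℤ, E.IsStrictlyLE b
  free : ∀ n, IsFreeSum O_D (E.X n)

/-- the class of acyclic bounded above complexes of free sums, in the homotopy category. -/
def PAcyc : ObjectProperty (HomotopyCategory (ModSite.Mod O_D) (ComplexShape.up ℤ)) :=
  fun X => ∃ E : CochainComplex (ModSite.Mod O_D) ℤ, IsBddFree O_D E ∧ E.Acyclic ∧
    Nonempty (X ≅ (HomotopyCategory.quotient _ _).obj E)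

variable {O_D}

lemma IsBddFree.shift {E : CochainComplex (ModSite.Mod O_D) ℤ} (hE : IsBddFree O_D E) (n : ℤ) :
    IsBddFree O_D (E⟦n⟧) := by
  obtain ⟨b, hb⟩ := hE.bdd
  exact ⟨⟨b - n, E.isStrictlyLE_shift b n (b - n) (by omega)⟩, fun i => hE.free (i + n)⟩

lemma acyclic_shift {E : CochainComplex (ModSite.Mod O_D) ℤ} (hE : E.Acyclic) (n : ℤ) :
    (E⟦n⟧).Acyclic := by
  rw [← HomotopyCategory.quotient_obj_mem_subcategoryAcyclic_iff_acyclic] at hE ⊢
  exact (HomotopyCategory.subcategoryAcyclic (ModSite.Mod O_D)).prop_of_iso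
    (((HomotopyCategory.quotient (ModSite.Mod O_D) (ComplexShape.up ℤ)).commShiftIso n).app
      E).symm
    ((HomotopyCategory.subcategoryAcyclic (ModSite.Mod O_D)).le_shift n _ hE)

instance : (PAcyc O_D).IsStableUnderShift ℤ where
  isStableUnderShiftBy n :=
    { le_shift := by
        rintro X ⟨E, hE, hacyc, ⟨e⟩⟩
        exact ⟨E⟦n⟧, hE.shift n, acyclic_shift hacyc n,
          ⟨(shiftFunctor _ n).mapIso e ≪≫
            (((HomotopyCategory.quotient (ModSite.Mod O_D)
              (ComplexShape.up ℤ)).commShiftIso n).app E).symm⟩⟩ }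

instance : (PAcyc O_D).IsClosedUnderIsomorphisms where
  of_iso := by
    rintro X Y e ⟨E, hE, hacyc, ⟨e'⟩⟩
    exact ⟨E, hE, hacyc, ⟨e.symm ≪≫ e'⟩⟩

lemma PAcyc_le_acyclic :
    PAcyc O_D ≤ HomotopyCategory.subcategoryAcyclic (ModSite.Mod O_D) := by
  rintro X ⟨E, -, hacyc, ⟨e⟩⟩
  exact (HomotopyCategory.subcategoryAcyclic (ModSite.Mod O_D)).prop_of_iso e.symm
    ((HomotopyCategory.quotient_obj_mem_subcategoryAcyclic_iff_acyclic E).2 hacyc)

/-- K-injective complexes are `PAcyc`-local. -/
lemma local_of_kInjective (X : HomotopyCategory (ModSite.Mod O_D) (ComplexShape.up ℤ))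
    (hX : (HomotopyCategory.subcategoryAcyclic (ModSite.Mod O_D)).rightOrthogonal X) :
    (PAcyc O_D).rightOrthogonal X :=
  fun _ φ hY => hX φ (PAcyc_le_acyclic _ hY)

end Defs

section Push

variable {C : Type u} [SmallCategory C] {J : GrothendieckTopology C} {O_C : Sheaf J CommRingCat.{u}}
  {D : Type u} [SmallCategory D] {K : GrothendieckTopology D} {O_D : Sheaf K CommRingCat.{u}}
  (f : ModSite.RMor O_C O_D)

/-- **The direct image of a K-injective complex is `PAcyc`-local.** -/
theorem pushLocal (X : HomotopyCategory (ModSite.Mod O_C) (ComplexShape.up ℤ))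
    (hX : (HomotopyCategory.subcategoryAcyclic (ModSite.Mod O_C)).rightOrthogonal X) :
    (PAcyc O_D).rightOrthogonal ((f.push.mapHomotopyCategory (ComplexShape.up ℤ)).obj X) := by
  rintro Y φ ⟨E, hE, hacyc, ⟨e⟩⟩
  let adjh := Groth.Agent.H33.DerAdjU.homotopyAdj f.adj (ComplexShape.up ℤ)
  obtain ⟨b, hb⟩ := hE.bdd
  -- `f^* E` is acyclic
  have h1 : ((f.pull.mapHomologicalComplex (ComplexShape.up ℤ)).obj E).Acyclic := fun n =>
    exactAt_pull_of_acyclic f E b (fun i hi => E.isZero_of_isStrictlyLE b i hi) hacyc hE.free n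
  have h2 : HomotopyCategory.subcategoryAcyclic (ModSite.Mod O_C)
      ((f.pull.mapHomotopyCategory (ComplexShape.up ℤ)).obj
        ((HomotopyCategory.quotient _ _).obj E)) :=
    (HomotopyCategory.quotient_obj_mem_subcategoryAcyclic_iff_acyclic _).2 h1
  have h3 : e.inv ≫ φ = 0 := by
    apply (adjh.homEquiv _ _).symm.injective
    exact (hX ((adjh.homEquiv _ _).symm (e.inv ≫ φ)) h2).trans
      (hX ((adjh.homEquiv _ _).symm 0) h2).symm
  rw [← cancel_epi e.inv, h3, comp_zero]

end Push

end Groth.Agent.H45.PushLocal
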