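import Groth.Agent.H45.PushLocal.DimShiftCx
import Groth.Agent.H45.Resolution.FreeOnClass
import Groth.Agent.H45.BddCompact.ModFreeOn
import Groth.Agent.H31.PushHU
import Groth.Agent.H31.ModAcyc
import Groth.Agent.H31.ModExt
import Groth.Agent.H33.SheafMod.Grothendieck

/-!
# `f^*` preserves the acyclicity of bounded above complexes of direct sums of modules `j_{V!}O_V` (helper45)

For a morphism of ringed sites `f : (C, O_C) → (D, O_D)` (no flatness assumption), if `E` is an acyclic complex of
`O_D`-modules, zero in large degrees, whose terms are direct sums of modules `j_{V!}O_V`, then `f^*E` is acyclic.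
-/

set_option autoImplicit false
universe u
open CategoryTheory CategoryTheory.Limits Opposite Abelian

namespace Groth.Agent.H45.PushLocal

open Groth.Agent.H31

section SectAcyclic

variable {C : Type u} [SmallCategory C] {J : GrothendieckTopology C} (O : Sheaf J CommRingCat.{u})
  [HasExt.{u} (ModSite.Mod O)]

/-- A module all of whose higher cohomology groups over all objects vanish. -/
def IsSectAcyclic (M : ModSite.Mod O) : Prop :=
  ∀ (V : C) (p : ℕ), Subsingleton (Ext (ModSite.freeOn O V) M (p + 1))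

variable {O}

/-- direct sums of modules `j_{V!}O_V` have no higher `Ext` into a section-acyclic module. -/
theorem acyc_freeSum (X : ModSite.Mod O) (hX : IsFreeSum O X) :
    ∀ (j : ℕ) (M : ModSite.Mod O), IsSectAcyclic O M → Subsingleton (Ext X M (j + 1)) := by
  haveI := Groth.Agent.H31.ModExt.enoughInjectives (ModSite.ringSh O)
  obtain ⟨ι, U, ⟨e⟩⟩ := hX
  have key : ∀ (M : ModSite.Mod O), IsSectAcyclic O M →
      ∃ (S : ShortComplex (ModSite.Mod O)), S.ShortExact ∧ S.X₁ = M ∧ Injective S.X₂ ∧
        IsSectAcyclic O S.X₃ ∧ Subsingleton (Ext X S.X₁ 1) := by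
    intro M hM
    let S : ShortComplex (ModSite.Mod O) :=
      ShortComplex.mk (Injective.ι M) (cokernel.π (Injective.ι M)) (cokernel.condition _)
    have hS : S.ShortExact := ShortComplex.ShortExact.mk (ShortComplex.exact_cokernel _)
    haveI : Injective S.X₂ := inferInstanceAs (Injective (Injective.under M))
    refine ⟨S, hS, rfl, inferInstance, ?_, ?_⟩
    · intro V p
      have := hM V (p + 1)
      exact (DimShift.subsingleton_ext_succ_iff hS (ModSite.freeOn O V) p).1 this
    · refine DimShift.subsingleton_ext_one_of_exists_lift hS X (fun φ => ?_)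
      have hl : ∀ i : ι, ∃ ψ : ModSite.freeOn O (U i) ⟶ S.X₂,
          ψ ≫ S.g = Sigma.ι (fun j => ModSite.freeOn O (U j)) i ≫ e.inv ≫ φ := by
        intro i
        haveI : Subsingleton (Ext (ModSite.freeOn O (U i)) S.X₁ 1) := hM (U i) 0
        exact DimShift.exists_lift_of_subsingleton_ext_one hS _ _
      choose ψ hψ using hl
      refine ⟨e.hom ≫ Sigma.desc ψ, ?_⟩
      rw [← cancel_epi e.inv, Category.assoc, Iso.inv_hom_id_assoc]
      apply Sigma.hom_ext
      intro i
      rw [← Category.assoc, Sigma.ι_desc, hψ]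
  intro j
  induction j with
  | zero =>
    intro M hM
    obtain ⟨S, hS, rfl, _, _, h1⟩ := key M hM
    exact h1
  | succ j ih =>
    intro M hM
    obtain ⟨S, hS, rfl, hI, h3, _⟩ := key M hM
    haveI := hI
    exact (DimShift.subsingleton_ext_succ_iff hS X j).2 (ih S.X₃ h3)

end SectAcyclic

section Push

variable {C : Type u} [SmallCategory C] {J : GrothendieckTopology C} {O_C : Sheaf J CommRingCat.{u}}
  {D : Type u} [SmallCategory D] {K : GrothendieckTopology D} {O_D : Sheaf K CommRingCat.{u}}
  (f : ModSite.RMor O_C O_D)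

/-- the direct image of an injective module is section-acyclic. -/
theorem isSectAcyclic_push_injective [HasExt.{u} (ModSite.Mod O_D)] (I : ModSite.Mod O_C)
    [Injective I] : IsSectAcyclic O_D (f.push.obj I) := by
  intro V p
  obtain ⟨eqv⟩ := Groth.Agent.H45.BddCompact.nonempty_ext_freeOn_addEquiv O_D V (f.push.obj I)
    (p + 1)
  have h1 : CohCx.IsTotallyAcyclic ((SheafOfModules.toSheaf.{u} (ModSite.ringSh O_C)).obj I) :=
    Groth.Agent.H31.ModAcyc.totallyAcyclic_of_injective (ModSite.ringSh O_C) I
  have h2 : CohCx.IsTotallyAcyclic ((CohSite.push J K f.fn).obj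
      ((SheafOfModules.toSheaf.{u} (ModSite.ringSh O_C)).obj I)) :=
    Groth.Agent.H31.PushAcyc.isTotallyAcyclic_push _ h1
  have h3 : Subsingleton (Ext (CohCx.freeSheaf K V)
      ((SheafOfModules.toSheaf.{u} (ModSite.ringSh O_D)).obj (f.push.obj I)) (p + 1)) :=
    Groth.Agent.H31.PushHU.acyclic_of_totallyAcyclic _ h2 (yoneda.obj V) p
  exact eqv.toEquiv.subsingleton

end Push

end Groth.Agent.H45.PushLocal

namespace Groth.Agent.H45.PushLocal

open Groth.Agent.H31

variable {C : Type u} [SmallCategory C] {J : GrothendieckTopology C} {O_C : Sheaf J CommRingCat.{u}}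
  {D : Type u} [SmallCategory D] {K : GrothendieckTopology D} {O_D : Sheaf K CommRingCat.{u}}
  (f : ModSite.RMor O_C O_D)

/-- **`f^*` of a bounded above acyclic complex of direct sums of modules `j_{V!}O_V` is acyclic.** -/
theorem exactAt_pull_of_acyclic (E : CochainComplex (ModSite.Mod O_D) ℤ) (b : ℤ)
    (hb : ∀ i, b < i → IsZero (E.X i)) (hE : ∀ n, E.ExactAt n)
    (hfree : ∀ n, IsFreeSum O_D (E.X n)) (n : ℤ) :
    ((f.pull.mapHomologicalComplex (ComplexShape.up ℤ)).obj E).ExactAt n := by
  have hG : IsGrothendieckAbelian.{u} (ModSite.Mod O_D) :=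
    Groth.Agent.H33.SheafMod.isGrothendieckAbelian K (ModSite.ringSh O_D)
  have hExt : HasExt.{u} (ModSite.Mod O_D) := inferInstance
  haveI := Groth.Agent.H31.ModExt.enoughInjectives (ModSite.ringSh O_C)
  obtain ⟨k, rfl⟩ : ∃ k, n = k + 1 := ⟨n - 1, by omega⟩
  rw [exactAt_iff_sc']
  apply exact_of_injective_test
  intro I _ g' hg'
  -- transpose along the adjunction
  let g : E.X (k + 1) ⟶ f.push.obj I := f.adj.homEquiv _ _ g'
  have hg : E.d k (k + 1) ≫ g = 0 := by
    have h1 : E.d k (k + 1) ≫ g = f.adj.homEquiv _ _ (f.pull.map (E.d k (k + 1)) ≫ g') :=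
      (Adjunction.homEquiv_naturality_left f.adj (E.d k (k + 1)) g').symm
    rw [h1]
    have h2 : f.pull.map (E.d k (k + 1)) ≫ g' = 0 := hg'
    rw [h2, Adjunction.homEquiv_unit, Functor.map_zero, comp_zero]
  have hM : ∀ m, ResShift.Acyc (f.push.obj I) (E.X m) := fun m j =>
    acyc_freeSum (E.X m) (hfree m) j _ (isSectAcyclic_push_injective f I)
  obtain ⟨h, hh⟩ := exists_factor_of_acyclic (f.push.obj I) b hb hE hM k g hg
  refine ⟨(f.adj.homEquiv _ _).symm h, ?_⟩
  change f.pull.map (E.d (k + 1) (k + 1 + 1)) ≫ (f.adj.homEquiv _ _).symm h = g'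
  rw [← Adjunction.homEquiv_naturality_left_symm, hh]
  exact Equiv.symm_apply_apply _ _

end Groth.Agent.H45.PushLocal
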