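import Groth.Agent.H45.PushLocal.SectLocal
import Groth.Agent.H45.PushLocal.SectProd

/-!
# The direct image of a product of K-injective complexes is a derived product (helper45)

For a morphism of ringed sites `f` (not necessarily flat) and K-injective complexes `I n` of `O_C`-modules with
product `P`, the image of `f_* P` in `D(O_D)` is the product of the images of the `f_* (I n)`.
-/

set_option autoImplicit false
universe w t v u
open CategoryTheory CategoryTheory.Limits Opposite DerivedCategory

namespace Groth.Agent.H45.PushLocal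

section general

variable {𝒞 : Type*} [Category 𝒞] {ι : Type*} {X X' : ι → 𝒞}

/-- a fan isomorphic to a limit fan (over an isomorphic family) is a limit fan. -/
noncomputable def isLimitFanOfIso (c : Fan X) (hc : IsLimit c) (c' : Fan X') (e : c.pt ≅ c'.pt)
    (ε : ∀ n, X n ≅ X' n) (h : ∀ n, e.hom ≫ c'.proj n = c.proj n ≫ (ε n).hom) : IsLimit c' :=
  Fan.IsLimit.mk c'
    (fun s => Fan.IsLimit.lift hc (fun n => s.proj n ≫ (ε n).inv) ≫ e.hom)
    (fun s n => by
      rw [Category.assoc, h, ← Category.assoc, Fan.IsLimit.fac, Category.assoc,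
        Iso.inv_hom_id, Category.comp_id])
    (fun s m hm => by
      rw [← cancel_mono e.inv, Category.assoc, Iso.hom_inv_id, Category.comp_id]
      refine Fan.IsLimit.hom_ext hc _ _ (fun n => ?_)
      have h' : e.inv ≫ c.proj n = c'.proj n ≫ (ε n).inv := by
        rw [← cancel_mono (ε n).hom, Category.assoc, Category.assoc, Iso.inv_hom_id,
          Category.comp_id, ← h, Iso.inv_hom_id_assoc]
      rw [Fan.IsLimit.fac, Category.assoc, h', ← Category.assoc, hm])

end general

section derived

variable {A : Type u} [Category.{v} A] [Abelian A] [HasDerivedCategory.{w} A]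
  {ι : Type t} [HasLimitsOfShape (Discrete ι) A] {I : ι → CochainComplex A ℤ}
  (c : Fan I) (hc : IsLimit c)

include hc in
/-- the image in the derived category of a product of K-injective complexes is a product. -/
lemma nonempty_isLimit_Q_fan (hI : ∀ n, (I n).IsKInjective) :
    Nonempty (IsLimit (Fan.mk ((Q : _ ⥤ DerivedCategory A).obj c.pt)
      (fun n => Q.map (c.proj n)))) := by
  have hbij : ∀ (T : DerivedCategory A), Function.Bijective
      (fun (φ : T ⟶ Q.obj c.pt) => fun n => φ ≫ Q.map (c.proj n)) := by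
    intro T
    let Y := (Q : _ ⥤ DerivedCategory A).objPreimage T
    let eT : Q.obj Y ≅ T := (Q : _ ⥤ DerivedCategory A).objObjPreimageIso T
    have hb := Groth.Agent.H6.DerivedProd.bijective_Q c hc hI Y
    constructor
    · intro φ φ' h
      have : eT.hom ≫ φ = eT.hom ≫ φ' := by
        apply hb.injective
        funext n
        have hn : φ ≫ Q.map (c.proj n) = φ' ≫ Q.map (c.proj n) := congrFun h n
        change (eT.hom ≫ φ) ≫ Q.map (c.proj n) = (eT.hom ≫ φ') ≫ Q.map (c.proj n)
        rw [Category.assoc, Category.assoc, hn]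
      exact (cancel_epi _).mp this
    · intro ψ
      obtain ⟨φ, hφ⟩ := hb.surjective (fun n => eT.hom ≫ ψ n)
      refine ⟨eT.inv ≫ φ, ?_⟩
      funext n
      have hn : φ ≫ Q.map (c.proj n) = eT.hom ≫ ψ n := congrFun hφ n
      change (eT.inv ≫ φ) ≫ Q.map (c.proj n) = ψ n
      rw [Category.assoc, hn, Iso.inv_hom_id_assoc]
  exact ⟨Fan.IsLimit.mk _ (fun s => ((hbij s.pt).surjective s.proj).choose)
      (fun s n => congrFun ((hbij s.pt).surjective s.proj).choose_spec n)
      (fun s m hm => (hbij s.pt).injective (by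
        funext n
        exact (hm n).trans (congrFun ((hbij s.pt).surjective s.proj).choose_spec n).symm))⟩

end derived

section push

variable {C : Type u} [SmallCategory C] {J : GrothendieckTopology C} {O_C : Sheaf J CommRingCat.{u}}
  {D : Type u} [SmallCategory D] {K : GrothendieckTopology D} {O_D : Sheaf K CommRingCat.{u}}
  (f : ModSite.RMor O_C O_D)

lemma isPLocal_push (I : CochainComplex (ModSite.Mod O_C) ℤ) [I.IsKInjective] :
    IsPLocal O_D ((f.push.mapHomologicalComplex (ComplexShape.up ℤ)).obj I) :=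
  pushLocal f _ (CochainComplex.IsKInjective.rightOrthogonal I)

variable {ι : Type t} [HasLimitsOfShape (Discrete ι) (ModSite.Mod O_C)]
  [HasLimitsOfShape (Discrete ι) (ModSite.Mod O_D)]
  {I : ι → CochainComplex (ModSite.Mod O_C) ℤ} (c : Fan I) (hc : IsLimit c)

include hc in
/-- a compatible family of K-injective resolutions of the `f_* (I n)` induces a quasi-isomorphism from
`f_*` of the product. -/
theorem quasiIso_push_prod (hI : ∀ n, (I n).IsKInjective)
    (J' : ι → CochainComplex (ModSite.Mod O_D) ℤ) (hJ' : ∀ n, (J' n).IsKInjective)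
    (s : ∀ n, (f.push.mapHomologicalComplex (ComplexShape.up ℤ)).obj (I n) ⟶ J' n)
    (hs : ∀ n, QuasiIso (s n)) (c' : Fan J') (hc' : IsLimit c')
    (σ : (f.push.mapHomologicalComplex (ComplexShape.up ℤ)).obj c.pt ⟶ c'.pt)
    (hσ : ∀ n, σ ≫ c'.proj n =
      (f.push.mapHomologicalComplex (ComplexShape.up ℤ)).map (c.proj n) ≫ s n) :
    QuasiIso σ := by
  have hp := (isSectProd_of_isLimit c hc).push f
  have hp' := isSectProd_of_isLimit c' hc'
  have hloc : ∀ n, IsPLocal O_D ((f.push.mapHomologicalComplex (ComplexShape.up ℤ)).obj (I n)) :=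
    fun n => by
      have := hI n
      exact isPLocal_push f (I n)
  have hloc' : ∀ n, IsPLocal O_D (J' n) := fun n => by
    have := hJ' n
    exact isPLocal_of_isKInjective (J' n)
  refine quasiIso_of_sections σ Set.univ (fun U => ?_) (fun k Y _ => ?_) (fun k Y _ => ?_)
  · refine ⟨PUnit, fun _ => U, fun _ => 𝟙 U, ?_, fun _ => Set.mem_univ _⟩
    have : Sieve.ofArrows (fun _ : PUnit.{u + 1} => U) (fun _ => 𝟙 U) = ⊤ := by
      rw [← Sieve.id_mem_iff_eq_top]
      exact Sieve.ofArrows_mk (fun _ : PUnit.{u + 1} => U) (fun _ => 𝟙 U) PUnit.unit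
    rw [this]
    exact K.top_mem U
  · exact sectInj_of_prod _ _ hp σ s hσ k Y
      (fun n => sectInj_of_local (s n) (hs n) (hloc n) (hloc' n) k Y)
  · exact sectSurj_of_prod _ _ hp hp' σ s hσ k Y
      (fun n => sectSurj_of_local (s n) (hs n) (hloc n) (hloc' n) k Y)

variable [HasDerivedCategory.{w} (ModSite.Mod O_D)]

include hc in
/-- **`f_*` of a product of K-injective complexes computes the product in `D(O_D)`.** -/
theorem nonempty_isLimit_Q_push_fan (hI : ∀ n, (I n).IsKInjective) :
    Nonempty (IsLimit (Fan.mk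
      ((Q : _ ⥤ DerivedCategory (ModSite.Mod O_D)).obj
        ((f.push.mapHomologicalComplex (ComplexShape.up ℤ)).obj c.pt))
      (fun n => Q.map ((f.push.mapHomologicalComplex (ComplexShape.up ℤ)).map (c.proj n))))) := by
  haveI : IsGrothendieckAbelian.{u} (ModSite.Mod O_D) :=
    Groth.Agent.H33.SheafMod.isGrothendieckAbelian K (ModSite.ringSh O_D)
  choose J' s hJ' hs _ _ using fun n : ι => Groth.Agent.H33.KInj.exists_kInjective_resolution
    ((f.push.mapHomologicalComplex (ComplexShape.up ℤ)).obj (I n))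
  let c' : Fan J' := Fan.mk (∏ᶜ J') (Pi.π J')
  have hc' : IsLimit c' := productIsProduct J'
  let σ : (f.push.mapHomologicalComplex (ComplexShape.up ℤ)).obj c.pt ⟶ c'.pt :=
    Pi.lift (fun n => (f.push.mapHomologicalComplex (ComplexShape.up ℤ)).map (c.proj n) ≫ s n)
  have hσ : ∀ n, σ ≫ c'.proj n =
      (f.push.mapHomologicalComplex (ComplexShape.up ℤ)).map (c.proj n) ≫ s n :=
    fun n => Pi.lift_π _ n
  have hqσ : QuasiIso σ := quasiIso_push_prod f c hc hI J' hJ' s hs c' hc' σ hσ
  have : IsIso ((Q : _ ⥤ DerivedCategory (ModSite.Mod O_D)).map σ) :=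
    (DerivedCategory.isIso_Q_map_iff_quasiIso (C := ModSite.Mod O_D) σ).2 hqσ
  have : ∀ n, IsIso ((Q : _ ⥤ DerivedCategory (ModSite.Mod O_D)).map (s n)) := fun n =>
    (DerivedCategory.isIso_Q_map_iff_quasiIso (C := ModSite.Mod O_D) (s n)).2 (hs n)
  obtain ⟨hlim⟩ := nonempty_isLimit_Q_fan (A := ModSite.Mod O_D) c' hc' hJ'
  refine ⟨isLimitFanOfIso _ hlim _ (asIso (Q.map σ)).symm (fun n => (asIso (Q.map (s n))).symm)
    (fun n => ?_)⟩
  change inv (Q.map σ) ≫ Q.map ((f.push.mapHomologicalComplex (ComplexShape.up ℤ)).map (c.proj n)) =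
    Q.map (c'.proj n) ≫ inv (Q.map (s n))
  rw [IsIso.inv_comp_eq, ← Category.assoc, IsIso.eq_comp_inv, ← Functor.map_comp,
    ← Functor.map_comp, hσ]

end push

end Groth.Agent.H45.PushLocal
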