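import Groth.Agent.H45.RlimModW.LocalSurj
import Groth.Agent.H45.RlimModW.CoreO

/-!
# A sectionwise criterion for quasi-isomorphisms of complexes of modules on a ringed site (helper45)

A morphism `φ : G ⟶ G'` of complexes of `O`-modules is a quasi-isomorphism as soon as, over every member `Y` of a
cofinal family of objects, (SI) every cycle of `G(Y)` whose image is a boundary is a boundary and (SS) every cycle of
`G'(Y)` is, up to a boundary, the image of a cycle of `G(Y)`.
-/

set_option autoImplicit false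
universe u
open CategoryTheory CategoryTheory.Limits Opposite

namespace Groth.Agent.H45.PushLocal

open Groth.Agent.H16 Groth.Agent.H45.RlimMod Groth.Agent.H45.RlimModW

variable {C : Type u} [SmallCategory C] {J : GrothendieckTopology C} {O : Sheaf J CommRingCat.{u}}

/-- (SI) over `Y` in degree `k`. -/
def SectInj {G G' : CochainComplex (ModSite.Mod O) ℤ} (φ : G ⟶ G') (k : ℤ) (Y : C) : Prop :=
  ∀ (q'' q' : ℤ) (_ : q'' + 1 = k) (_ : k + 1 = q') (x : (G.X k).val.obj (op Y)),
    (G.d k q').val.app (op Y) x = 0 →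
    (∃ b : (G'.X q'').val.obj (op Y), (G'.d q'' k).val.app (op Y) b = (φ.f k).val.app (op Y) x) →
    ∃ y : (G.X q'').val.obj (op Y), (G.d q'' k).val.app (op Y) y = x

/-- (SS) over `Y` in degree `k`. -/
def SectSurj {G G' : CochainComplex (ModSite.Mod O) ℤ} (φ : G ⟶ G') (k : ℤ) (Y : C) : Prop :=
  ∀ (q'' q' : ℤ) (_ : q'' + 1 = k) (_ : k + 1 = q') (x' : (G'.X k).val.obj (op Y)),
    (G'.d k q').val.app (op Y) x' = 0 →
    ∃ (x : (G.X k).val.obj (op Y)) (b : (G'.X q'').val.obj (op Y)),
      (G.d k q').val.app (op Y) x = 0 ∧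
        (φ.f k).val.app (op Y) x + (G'.d q'' k).val.app (op Y) b = x'

theorem quasiIso_of_sections {G G' : CochainComplex (ModSite.Mod O) ℤ} (φ : G ⟶ G')
    (B : Set C)
    (hB : ∀ U : C, ∃ (ι : Type u) (Y : ι → C) (g : ∀ i, Y i ⟶ U),
      Sieve.ofArrows Y g ∈ J U ∧ ∀ i, Y i ∈ B)
    (hI : ∀ (k : ℤ) (Y : C), Y ∈ B → SectInj φ k Y)
    (hS : ∀ (k : ℤ) (Y : C), Y ∈ B → SectSurj φ k Y) : QuasiIso φ := by
  refine ⟨fun k => ?_⟩
  rw [quasiIsoAt_iff_isIso_homologyMap]
  let φk : G.sc k ⟶ G'.sc k := (HomologicalComplex.shortComplexFunctor _ _ k).map φ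
  change IsIso (ShortComplex.homologyMap φk)
  let S := (G.sc k).map (toSh O)
  let S' := (G'.sc k).map (toSh O)
  let Φ : S ⟶ S' := (toSh O).mapShortComplex.map φk
  have hnat : (toSh O).map (ShortComplex.homologyMap φk) ≫
      ((G'.sc k).mapHomologyIso (toSh O)).inv =
        ((G.sc k).mapHomologyIso (toSh O)).inv ≫ ShortComplex.homologyMap Φ :=
    ShortComplex.mapHomologyIso_inv_naturality φk (toSh O)
  -- injectivity on sections over members of `B`
  have key : ∀ V : C, ∀ s : S.homology.obj.obj (op V),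
      ((ShortComplex.homologyMap Φ).hom.app (op V)).hom s = 0 → s = 0 := by
    intro V s hs
    obtain ⟨T, hT, h⟩ := local_injective Φ (fun Y => Y ∈ B) (by
      intro Y hY x hx hb
      exact hI k Y hY _ _ (prev_eq k) (next_eq k) x hx hb) V s hs
    refine RlimInjB.eq_zero_of_cover J _ V s T hT ?_
    intro W g hg
    obtain ⟨ι, Y, f, hcov, hYB⟩ := hB W
    refine RlimInjB.eq_zero_of_cover J _ W _ (Sieve.ofArrows Y f) hcov ?_
    intro W' g' hg'
    obtain ⟨i, u, rfl⟩ := (Sieve.mem_ofArrows_iff Y f g').1 hg'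
    have h1 : (S.homology.obj.map (f i ≫ g).op).hom s = 0 :=
      h (f i ≫ g) (T.downward_closed hg (f i)) (hYB i)
    have h2 : (S.homology.obj.map (u ≫ f i).op).hom ((S.homology.obj.map g.op).hom s) =
        (S.homology.obj.map u.op).hom ((S.homology.obj.map (f i ≫ g).op).hom s) := by
      rw [op_comp, op_comp, Functor.map_comp, Functor.map_comp]
      rfl
    rw [h2, h1, map_zero]
  have hmono : Mono (ShortComplex.homologyMap Φ) := by
    rw [Sheaf.Hom.mono_iff_presheaf_mono J AddCommGrpCat.{u}, NatTrans.mono_iff_mono_app]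
    intro V
    rw [AddCommGrpCat.mono_iff_injective]
    refine (injective_iff_map_eq_zero ((ShortComplex.homologyMap Φ).hom.app V).hom).2 ?_
    intro s hs
    exact key V.unop s hs
  have hepi : Epi (ShortComplex.homologyMap Φ) := by
    refine epi_of_local_lifts _ B hB ?_
    intro V _ σ
    obtain ⟨T, hT, h⟩ := local_surjective Φ (fun Y => Y ∈ B) (by
      intro Y hY x' hx'
      exact hS k Y hY _ _ (prev_eq k) (next_eq k) x' hx') V σ
    -- refine the sieve `T` by members of `B`
    let ι : Type u := Σ (W : C) (g : W ⟶ V) (Y : C), {f : Y ⟶ W // T.arrows g ∧ Y ∈ B}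
    refine ⟨ι, fun i => i.2.2.1, fun i => i.2.2.2.1 ≫ i.2.1, ?_, fun i => ?_⟩
    · refine J.transitive hT _ ?_
      intro W g hg
      obtain ⟨ι', Y, f, hcov, hYB⟩ := hB W
      refine J.superset_covering ?_ hcov
      intro W' g' hg'
      obtain ⟨i, u, rfl⟩ := (Sieve.mem_ofArrows_iff Y f g').1 hg'
      change (Sieve.ofArrows _ _).arrows ((u ≫ f i) ≫ g)
      rw [Category.assoc]
      exact Sieve.downward_closed _
        (Sieve.ofArrows_mk (fun i : ι => i.2.2.1) (fun i : ι => i.2.2.2.1 ≫ i.2.1)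
          (⟨W, g, Y i, f i, hg, hYB i⟩ : ι)) u
    · obtain ⟨W, g, Y, f, hg, hY⟩ := i
      exact h (f ≫ g) (T.downward_closed hg f) hY
  have hmono' : Mono ((toSh O).map (ShortComplex.homologyMap φk)) := by
    have h1 : (toSh O).map (ShortComplex.homologyMap φk) =
        (((G.sc k).mapHomologyIso (toSh O)).inv ≫ ShortComplex.homologyMap Φ) ≫
          ((G'.sc k).mapHomologyIso (toSh O)).hom := by
      rw [← hnat, Category.assoc, Iso.inv_hom_id, Category.comp_id]
    rw [h1]
    infer_instance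
  have hepi' : Epi ((toSh O).map (ShortComplex.homologyMap φk)) := by
    have h1 : (toSh O).map (ShortComplex.homologyMap φk) =
        (((G.sc k).mapHomologyIso (toSh O)).inv ≫ ShortComplex.homologyMap Φ) ≫
          ((G'.sc k).mapHomologyIso (toSh O)).hom := by
      rw [← hnat, Category.assoc, Iso.inv_hom_id, Category.comp_id]
    rw [h1]
    infer_instance
  have h1 : Mono (ShortComplex.homologyMap φk) := (toSh O).mono_of_mono_map hmono'
  have h2 : Epi (ShortComplex.homologyMap φk) := (toSh O).epi_of_epi_map hepi'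
  exact isIso_of_mono_of_epi _

end Groth.Agent.H45.PushLocal
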