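import Groth.Agent.H45.PushLocal.RFAdditive
import Groth.Agent.H30.ExtendMap
import Mathlib.CategoryTheory.Abelian.Injective.Ext

/-!
# The unbounded total right derived functor on shifts and on single objects (helper45)

* `nonempty_RF_shift_iso`: `RF(M[a]) ≅ RF(M)[a]` for the total right derived functor of a functor commuting
  with shifts (computed by K-injective resolutions).
* `homology_RF_single`: for an additive functor `G : B ⥤ A` between abelian categories, and `M` concentrated in
  degree `b` with cohomology `X`, `H^j(RG(M)) = R^{j-b}G(X)`, zero for `j < b`.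
-/

set_option autoImplicit false

open CategoryTheory Limits Pretriangulated

namespace Groth.Agent.H45.PushLocal

universe w₁ w₂ v₁ u₁ v₂ u₂

open Groth.Agent.H5.KInjDeriv Groth.Agent.H33.DerComp

section shift

variable {A : Type u₁} [Category.{v₁} A] [Abelian A] [HasDerivedCategory.{w₁} A]
  (hKinjA : ∀ K : CochainComplex A ℤ, ∃ (I : CochainComplex A ℤ) (f : K ⟶ I),
    I.IsKInjective ∧ QuasiIso f)
  {D' : Type*} [Category D'] [HasShift D' ℤ]
  (F : HomotopyCategory A (ComplexShape.up ℤ) ⥤ D') [F.CommShift ℤ]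
  [F.HasRightDerivedFunctor (HomotopyCategory.quasiIso A (ComplexShape.up ℤ))]

omit [HasDerivedCategory.{w₁} A] in
lemma kInj_shift (X : HomotopyCategory A (ComplexShape.up ℤ)) (hX : kInj A X) (a : ℤ) :
    kInj A (X⟦a⟧) := by
  rw [Groth.Agent.H33.DerTriangle.kInj_iff_rightOrthogonal] at hX ⊢
  exact (HomotopyCategory.subcategoryAcyclic A).rightOrthogonal.le_shift a _ hX

include hKinjA in
/-- `RF(M[a]) ≅ RF(M)[a]`. -/
theorem nonempty_RF_shift_iso (M : DerivedCategory A) (a : ℤ) :
    Nonempty ((RF F).obj (M⟦a⟧) ≅ ((RF F).obj M)⟦a⟧) := by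
  have hess := essSurj hKinjA
  let Ψ := (Φ A).functor ⋙ DerivedCategory.Qh (C := A)
  let I : KInj A := Ψ.objPreimage M
  let e₁ : DerivedCategory.Qh.obj I.obj ≅ M := Ψ.objObjPreimageIso M
  let Ia : KInj A := ⟨I.obj⟦a⟧, kInj_shift I.obj I.property a⟩
  have i₁ : IsIso ((RFunit F).app I.obj) := isIso_RFunit_app hKinjA F I
  have i₂ : IsIso ((RFunit F).app (I.obj⟦a⟧)) := isIso_RFunit_app hKinjA F Ia
  exact ⟨(RF F).mapIso ((shiftFunctor _ a).mapIso e₁.symm) ≪≫
    (RF F).mapIso ((DerivedCategory.Qh.commShiftIso a).app I.obj).symm ≪≫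
    (asIso ((RFunit F).app (I.obj⟦a⟧))).symm ≪≫
    (F.commShiftIso a).app I.obj ≪≫
    (shiftFunctor _ a).mapIso (asIso ((RFunit F).app I.obj)) ≪≫
    (shiftFunctor _ a).mapIso ((RF F).mapIso e₁)⟩

end shift

section single

variable {B : Type u₁} [Category.{v₁} B] [Abelian B] [HasDerivedCategory.{w₁} B]
  {A : Type u₂} [Category.{v₂} A] [Abelian A] [HasDerivedCategory.{w₂} A]
  (hKinjB : ∀ K : CochainComplex B ℤ, ∃ (I : CochainComplex B ℤ) (f : K ⟶ I),
    I.IsKInjective ∧ QuasiIso f)
  (G : B ⥤ A) [G.Additive]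
  [(G.mapHomotopyCategory (ComplexShape.up ℤ) ⋙ DerivedCategory.Qh).HasRightDerivedFunctor
    (HomotopyCategory.quasiIso B (ComplexShape.up ℤ))]

/-- abbreviation: the unbounded total right derived functor of an additive functor between abelian categories. -/
noncomputable abbrev RG : DerivedCategory B ⥤ DerivedCategory A :=
  RF (G.mapHomotopyCategory (ComplexShape.up ℤ) ⋙ DerivedCategory.Qh)

include hKinjB in
theorem nonempty_RG_shift_iso (M : DerivedCategory B) (a : ℤ) :
    Nonempty ((RG G).obj (M⟦a⟧) ≅ ((RG G).obj M)⟦a⟧) :=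
  nonempty_RF_shift_iso hKinjB _ M a

include hKinjB in
/-- `RG` of a K-injective complex is computed termwise. -/
theorem nonempty_RG_Q_iso (I : CochainComplex B ℤ) (hI : I.IsKInjective) :
    Nonempty ((RG G).obj (DerivedCategory.Q.obj I) ≅
      DerivedCategory.Q.obj ((G.mapHomologicalComplex (ComplexShape.up ℤ)).obj I)) := by
  have i₁ := isIso_totalRightDerivedUnit_app hKinjB
    (G.mapHomotopyCategory (ComplexShape.up ℤ) ⋙ DerivedCategory.Qh) I hI
  let u : DerivedCategory.Q.obj ((G.mapHomologicalComplex (ComplexShape.up ℤ)).obj I) ⟶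
      (RG G).obj (DerivedCategory.Q.obj I) :=
    (RFunit (G.mapHomotopyCategory (ComplexShape.up ℤ) ⋙ DerivedCategory.Qh)).app
      ((HomotopyCategory.quotient _ _).obj I)
  have : IsIso u := i₁
  exact ⟨(asIso u).symm⟩

variable [HasInjectiveResolutions B]

include hKinjB in
/-- `RG` of a single object is computed by an injective resolution. -/
theorem nonempty_RG_single_iso {X : B} (I : InjectiveResolution X) :
    Nonempty ((RG G).obj ((DerivedCategory.singleFunctor B 0).obj X) ≅
      DerivedCategory.Q.obj ((G.mapHomologicalComplex (ComplexShape.up ℤ)).obj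
        I.cochainComplex)) := by
  obtain ⟨e⟩ := nonempty_RG_Q_iso hKinjB G I.cochainComplex inferInstance
  have : IsIso ((DerivedCategory.Q : _ ⥤ DerivedCategory B).map I.ι') :=
    (DerivedCategory.isIso_Q_map_iff_quasiIso (C := B) I.ι').2 inferInstance
  let e₀ : (DerivedCategory.singleFunctor B 0).obj X ≅ DerivedCategory.Q.obj I.cochainComplex :=
    (DerivedCategory.singleFunctorIsoCompQ B 0).app X ≪≫ asIso (DerivedCategory.Q.map I.ι')
  exact ⟨(RG G).mapIso e₀ ≪≫ e⟩

include hKinjB in
/-- **Cohomology of `RG` of an object concentrated in one degree.** -/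
theorem homology_RG_single (X : B) (b : ℤ) (M : DerivedCategory B)
    (e : M ≅ (DerivedCategory.singleFunctor B b).obj X) (j : ℤ) :
    (j < b → IsZero ((DerivedCategory.homologyFunctor A j).obj ((RG G).obj M))) ∧
    (∀ n : ℕ, b + n = j → Nonempty ((DerivedCategory.homologyFunctor A j).obj ((RG G).obj M) ≅
      (G.rightDerived n).obj X)) := by
  let I : InjectiveResolution X := Classical.choice (HasInjectiveResolution.out (Z := X))
  let K := (G.mapHomologicalComplex (ComplexShape.up ℤ)).obj I.cochainComplex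
  obtain ⟨e₁⟩ := nonempty_RG_single_iso hKinjB G I
  let M₀ := (DerivedCategory.singleFunctor B 0).obj X
  obtain ⟨e₂⟩ := nonempty_RG_shift_iso hKinjB G M₀ (-b)
  -- `M ≅ M₀[-b]`
  let e₃ : M ≅ M₀⟦-b⟧ := e ≪≫
    ((DerivedCategory.singleFunctors B).shiftIso (-b) b 0 (by omega)).symm.app X
  -- `H^j(RG M) ≅ H^{j-b}(K)`
  let e₄ : (DerivedCategory.homologyFunctor A j).obj ((RG G).obj M) ≅ K.homology (j - b) :=
    (DerivedCategory.homologyFunctor A j).mapIso ((RG G).mapIso e₃ ≪≫ e₂) ≪≫
      ((DerivedCategory.homologyFunctor A 0).shiftIso (-b) j (j - b) (by omega)).app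
        ((RG G).obj M₀) ≪≫
      (DerivedCategory.homologyFunctor A (j - b)).mapIso e₁ ≪≫
      (DerivedCategory.homologyFunctorFactors A (j - b)).app K
  constructor
  · intro hj
    have h1 : K.ExactAt (j - b) :=
      Groth.Agent.H30.ExtendMap.exactAt_map_extend_of_neg G I.cocomplex (j - b) (by omega)
    exact (h1.isZero_homology).of_iso e₄
  · intro n hn
    exact ⟨e₄ ≪≫ Groth.Agent.H30.ExtendMap.rightDerivedIso G I n (j - b) (by omega)⟩

end single

end Groth.Agent.H45.PushLocal
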