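import Groth.Agent.H45.PushLocal.ClsOLocal
import Groth.Agent.H45.PushLocal.QisSect

/-!
# Quasi-isomorphisms between `PAcyc`-local complexes are sectionwise quasi-isomorphisms (helper45)
-/

set_option autoImplicit false
universe u
open CategoryTheory CategoryTheory.Limits Opposite CochainComplex HomComplex DerivedCategory

namespace Groth.Agent.H45.PushLocal

open Groth.Agent.H30 Groth.Agent.H45.RlimModW

variable {D : Type u} [SmallCategory D] {K : GrothendieckTopology D} {O_D : Sheaf K CommRingCat.{u}}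

theorem sectInj_of_local {G G' : CochainComplex (ModSite.Mod O_D) ℤ} (s : G ⟶ G') (hs : QuasiIso s)
    (hG : IsPLocal O_D G) (hG' : IsPLocal O_D G') (k : ℤ) (Y : D) : SectInj s k Y := by
  letI := HasDerivedCategory.standard (ModSite.Mod O_D)
  intro q'' q' hq'' hq' x hx hb
  have hx' := map_cycle s k q' Y x hx
  have h1 : clsO G' k Y q' hq' ((s.f k).val.app (op Y) x) hx' = 0 :=
    (clsO_eq_zero_iff_of_local G' hG' k Y q' hq' _ hx' q'' hq'').2 hb
  rw [clsO_postcomp s k Y q' hq' x hx hx'] at h1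
  have : IsIso (Q.map s) := (DerivedCategory.isIso_Q_map_iff_quasiIso (C := ModSite.Mod O_D) s).2 hs
  have h2 : clsO G k Y q' hq' x hx = 0 := by
    rw [← cancel_mono ((Q.map s)⟦k⟧'), h1, zero_comp]
  exact (clsO_eq_zero_iff_of_local G hG k Y q' hq' x hx q'' hq'').1 h2

theorem sectSurj_of_local {G G' : CochainComplex (ModSite.Mod O_D) ℤ} (s : G ⟶ G') (hs : QuasiIso s)
    (hG : IsPLocal O_D G) (hG' : IsPLocal O_D G') (k : ℤ) (Y : D) : SectSurj s k Y := by
  letI := HasDerivedCategory.standard (ModSite.Mod O_D)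
  intro q'' q' hq'' hq' x' hx'
  have : IsIso (Q.map s) := (DerivedCategory.isIso_Q_map_iff_quasiIso (C := ModSite.Mod O_D) s).2 hs
  obtain ⟨x, hx, hxα⟩ := clsO_surjective_of_local G hG k Y q' hq'
    (clsO G' k Y q' hq' x' hx' ≫ inv ((Q.map s)⟦k⟧'))
  have hsx := map_cycle s k q' Y x hx
  have h1 : clsO G' k Y q' hq' ((s.f k).val.app (op Y) x) hsx = clsO G' k Y q' hq' x' hx' := by
    rw [clsO_postcomp s k Y q' hq' x hx hsx, hxα, Category.assoc, IsIso.inv_hom_id,
      Category.comp_id]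
  have hy : (G'.d k q').val.app (op Y) (x' - (s.f k).val.app (op Y) x) = 0 := by
    rw [map_sub, hx', hsx, sub_zero]
  have hsum : (s.f k).val.app (op Y) x + (x' - (s.f k).val.app (op Y) x) = x' := by abel
  have hxy : (G'.d k q').val.app (op Y)
      ((s.f k).val.app (op Y) x + (x' - (s.f k).val.app (op Y) x)) = 0 := by
    rw [hsum]; exact hx'
  have h2 := clsO_add G' k Y q' hq' _ _ hsx hy hxy
  rw [clsO_congr G' k Y q' hq' hsum hxy hx', h1] at h2
  have h3 : clsO G' k Y q' hq' (x' - (s.f k).val.app (op Y) x) hy = 0 := by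
    have := h2
    rwa [left_eq_add] at this
  obtain ⟨b, hb⟩ := (clsO_eq_zero_iff_of_local G' hG' k Y q' hq' _ hy q'' hq'').1 h3
  exact ⟨x, b, hx, by rw [hb]; exact hsum⟩

end Groth.Agent.H45.PushLocal
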