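import Groth.Agent.H45.PushLocal.TransferRF
import Groth.Agent.H45.PushLocal.RFSingle
import Groth.Agent.H45.RlimModW.UnboundedSite

/-!
# Stabilisation of `H^j(Rf_* τ_{≥ -n} K)` for an arbitrary morphism of ringed sites (helper45)

For `K ∈ D_A(O_C)`, if `R^p f_* F = 0` for `F ∈ A` and `p > N`, then
`H^j(Rf_* K) → H^j(Rf_* τ_{≥ -n} K)` is an isomorphism for `j ≥ N - n`, under cohomological dimension bounds
on both sites.
-/

set_option autoImplicit false
universe w w' u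
open CategoryTheory CategoryTheory.Limits Opposite DerivedCategory Pretriangulated

namespace Groth.Agent.H45.PushLocal

open Groth.Agent.H5.KInjDeriv Groth.Agent.H33.DerComp Groth.Agent.H45.RlimModW Groth.Agent.H16

variable {C : Type u} [SmallCategory C] {J : GrothendieckTopology C} {O_C : Sheaf J CommRingCat.{u}}
  {D : Type u} [SmallCategory D] {K : GrothendieckTopology D} {O_D : Sheaf K CommRingCat.{u}}
  (f : ModSite.RMor O_C O_D)
  [HasDerivedCategory.{w} (ModSite.Mod O_C)] [HasDerivedCategory.{w'} (ModSite.Mod O_D)]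
  [(pushKh' f).HasRightDerivedFunctor
    (HomotopyCategory.quasiIso (ModSite.Mod O_C) (ComplexShape.up ℤ))]
  [HasInjectiveResolutions (ModSite.Mod O_C)]

/-- `H^q(Rf_* Z) = 0` for `q < b` or `q > b + N` when `Z = G[-b]` and `R^p f_* G = 0` for `p > N`. -/
lemma isZero_homology_RF_single (G : ModSite.Mod O_C) (b : ℤ)
    (Z : DerivedCategory (ModSite.Mod O_C)) (e : Z ≅ (singleFunctor (ModSite.Mod O_C) b).obj G)
    (N : ℤ) (hvan : ∀ p : ℕ, N < (p : ℤ) → IsZero ((f.Rpush p).obj G))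
    (q : ℤ) (hq : q < b ∨ b + N < q) :
    IsZero ((homologyFunctor (ModSite.Mod O_D) q).obj ((RF (pushKh' f)).obj Z)) := by
  obtain ⟨h1, h2⟩ := homology_RG_single (hKinj_mod O_C) f.push G b Z e q
  by_cases hqb : q < b
  · exact h1 hqb
  · have hq' : b + N < q := hq.resolve_left hqb
    obtain ⟨e'⟩ := h2 (q - b).toNat (by rw [Int.toNat_of_nonneg (by omega)]; ring)
    exact (hvan (q - b).toNat (by rw [Int.toNat_of_nonneg (by omega)]; omega)).of_iso e'

/-- the transition maps of `Rf_* τ_{≥ -n} X` are isomorphisms on `H^j` for `j ≥ N - n`. -/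
lemma isIso_homologyMap_RF_truncTowerMap (X : DerivedCategory (ModSite.Mod O_C)) (m : ℕ)
    (N : ℤ)
    (hvan : ∀ p : ℕ, N < (p : ℤ) → IsZero ((f.Rpush p).obj
      ((homologyFunctor (ModSite.Mod O_C) (-((m + 1 : ℕ) : ℤ))).obj X)))
    (j : ℤ) (hj : N - (m : ℤ) ≤ j) :
    IsIso ((homologyFunctor (ModSite.Mod O_D) j).map
      ((RF (pushKh' f)).map (CohCx.truncTowerMap X m))) := by
  obtain ⟨Z, g, δ, hT, ⟨e⟩⟩ :=
    RlimTruncA.exists_triangle X (-((m + 1 : ℕ) : ℤ)) (-(m : ℤ)) (by push_cast; omega)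
  obtain ⟨w, hT'⟩ := exists_distinguished_mapHomotopy (hKinj_mod O_C) f.push _ hT
  have hz : ∀ q : ℤ, -((m + 1 : ℕ) : ℤ) + N < q →
      IsZero ((homologyFunctor (ModSite.Mod O_D) q).obj ((RF (pushKh' f)).obj Z)) :=
    fun q hq => isZero_homology_RF_single f _ _ Z e N hvan q (Or.inr hq)
  exact Groth.Agent.H45.isIso_homologyMap_mor₂ _ hT' j (j + 1) rfl
    (hz j (by push_cast; omega)) (hz (j + 1) (by push_cast; omega))

lemma isIso_homologyMap_RF_transition (X : DerivedCategory (ModSite.Mod O_C)) (N : ℤ)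
    (hvan : ∀ (q : ℤ) (p : ℕ), N < (p : ℤ) → IsZero ((f.Rpush p).obj
      ((homologyFunctor (ModSite.Mod O_C) q).obj X)))
    (n : ℕ) (j : ℤ) (hj : N - (n : ℤ) ≤ j) (k : ℕ) :
    IsIso ((homologyFunctor (ModSite.Mod O_D) j).map ((RF (pushKh' f)).map
      (CohCx.transition (CohCx.truncTower X) (CohCx.truncTowerMap X) n k))) := by
  induction k with
  | zero =>
    change IsIso ((homologyFunctor (ModSite.Mod O_D) j).map ((RF (pushKh' f)).map (𝟙 _)))
    rw [CategoryTheory.Functor.map_id, CategoryTheory.Functor.map_id]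
    infer_instance
  | succ k ih =>
    change IsIso ((homologyFunctor (ModSite.Mod O_D) j).map ((RF (pushKh' f)).map
      (CohCx.truncTowerMap X (n + k) ≫
        CohCx.transition (CohCx.truncTower X) (CohCx.truncTowerMap X) n k)))
    rw [CategoryTheory.Functor.map_comp, CategoryTheory.Functor.map_comp]
    have := isIso_homologyMap_RF_truncTowerMap f X (n + k) N (hvan _) j (by push_cast; omega)
    infer_instance

/-- **Stabilisation of `H^j(Rf_* τ_{≥ -n} X)`** (the reference, the version with a cohomological dimension bound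
on the objects `u(V'_i)`). -/
theorem isIso_homologyMap_RF_toTruncTower
    (A : ObjectProperty (ModSite.Mod O_C)) [WSerre.IsWeakSerre A]
    (B : Set C) (B' : Set D)
    (hB : ∀ U : C, ∃ (ι : Type u) (Y : ι → C) (g : ∀ i, Y i ⟶ U),
      Sieve.ofArrows Y g ∈ J U ∧ ∀ i, Y i ∈ B)
    (hA : ∀ V ∈ B, ∃ d : ℕ, ∀ T ∈ J V, ∃ (ι : Type u) (Y : ι → C) (g : ∀ i, Y i ⟶ V),
      (∀ i, T.arrows (g i)) ∧ Sieve.ofArrows Y g ∈ J V ∧ ∀ i, Groth.Agent.H45.RlimModW.Good O_C A d (Y i))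
    (hB' : ∀ U : D, ∃ (ι : Type u) (Y : ι → D) (g : ∀ i, Y i ⟶ U),
      Sieve.ofArrows Y g ∈ K U ∧ ∀ i, Y i ∈ B')
    (hA' : ∀ V ∈ B', ∃ d : ℕ, ∀ T ∈ K V, ∃ (ι : Type u) (Y : ι → D) (g : ∀ i, Y i ⟶ V),
      (∀ i, T.arrows (g i)) ∧ Sieve.ofArrows Y g ∈ K V ∧
      ∀ i, Groth.Agent.H45.RlimModW.Good O_C A d (f.fn.obj (Y i)))
    (N : ℤ)
    (h3 : ∀ F : ModSite.Mod O_C, A F → ∀ p : ℕ, N < (p : ℤ) → IsZero ((f.Rpush p).obj F))
    (X : DerivedCategory (ModSite.Mod O_C)) (hX : WSerre.cohIn A X) (n : ℕ) (j : ℤ)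
    (hj : N - (n : ℤ) ≤ j) :
    IsIso ((homologyFunctor (ModSite.Mod O_D) j).map
      ((RF (pushKh' f)).map (CohCx.toTruncTower X n))) := by
  haveI hprodC : ∀ E : ℕ → DerivedCategory (ModSite.Mod O_C), HasProduct E :=
    fun E => hasProduct_derived_mod O_C E
  haveI hprodD : ∀ E : ℕ → DerivedCategory (ModSite.Mod O_D), HasProduct E :=
    fun E => hasProduct_derived_mod O_D E
  have hRlim := rlimHyp_of_good A B hB hA X hX
  have hR := isRlimVia_RF f _ _ X _ hRlim
  refine isIso_homologyMap_of_good_transitions O_D B' hB' _ _ _ _ hR j n ?_ ?_ n le_rfl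
  · intro m hm
    exact isIso_homologyMap_RF_truncTowerMap f X m N (fun p hp => h3 _ (hX _) p hp) j
      (by have : (n : ℤ) ≤ m := by exact_mod_cast hm
          omega)
  · intro V hV
    obtain ⟨d, hd⟩ := hA' V hV
    refine ⟨((d : ℤ) + 1 - j).toNat, fun T hT => ?_⟩
    obtain ⟨ι, Y, g, hgT, hcov, hY⟩ := hd T hT
    refine ⟨ι, Y, g, hgT, hcov, fun i m hm => ?_⟩
    have hiso : ∀ q : ℤ, j - d - 1 ≤ q → q ≤ j + 1 →
        IsIso ((homologyFunctor (ModSite.Mod O_C) q).map (CohCx.truncTowerMap X m)) :=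
      fun q h1 _ => RlimTruncA.isIso_homologyMap_truncTowerMap X m q (by omega)
    have tg := transition_good (hY i) (CohCx.truncTowerMap X m)
      (Groth.Agent.H45.UEq.cohInPlus_truncTower A X hX (m + 1))
      (Groth.Agent.H45.UEq.cohInPlus_truncTower A X hX m) j hiso
    exact ⟨(injective_RF_iff f _ j (Y i)).2 tg.1, (surjective_RF_iff f _ j (Y i)).2 tg.2.1,
      (surjective_RF_iff f _ (j - 1) (Y i)).2 tg.2.2⟩

end Groth.Agent.H45.PushLocal
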